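import Cfsg.Agent.MT.M12

/-! Groups of order 64 with a self-centralizing rational element of order 8. -/

set_option autoImplicit false
set_option linter.unusedVariables false
set_option linter.unusedSectionVars false

namespace MT

open Cfsg Subgroup FT H4 H5 GW

universe u

/-- `f ^ i u ^ j a ^ k` -/
structure CN where
  i : Fin 8
  j : Bool
  k : Bool
  deriving DecidableEq

/-- coordinates -/
def CN.equivProd : Fin 8 × Bool × Bool ≃ CN where
  toFun x := ⟨x.1, x.2.1, x.2.2⟩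
  invFun x := (x.i, x.j, x.k)
  left_inv _ := rfl
  right_inv _ := rfl

instance instFintypeCN : Fintype CN := Fintype.ofEquiv _ CN.equivProd

def mN (α : Bool) (x y : CN) : CN :=
  ⟨x.i + (bif x.j then 5 else 1) * (bif x.k then 7 * y.i + (bif α && y.k then 4 else 0) else y.i),
    xor x.j y.j, xor x.k y.k⟩

def oN : CN := ⟨0, false, false⟩
def fN : CN := ⟨1, false, false⟩
def uN : CN := ⟨0, true, false⟩
def zN : CN := ⟨4, false, false⟩
def guN : CN := ⟨1, true, false⟩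
/-- powers of `f u` -/
def pN (i : Fin 8) : CN := ⟨i + 2 * (i - i % 2), i % 2 == 1, false⟩
/-- conjugation by `b` -/
def bN (α : Bool) (δ : Fin 8) (y : CN) : CN :=
  mN α (mN α (pN y.i) ⟨0, y.j, false⟩) (bif y.k then ⟨δ, true, true⟩ else oN)

def m8 (α β : Bool) (δ : Fin 8) (x y : CN × Bool) : CN × Bool :=
  (mN α (mN α x.1 (bif x.2 then bN α δ y.1 else y.1)) (bif β && x.2 && y.2 then zN else oN),
    xor x.2 y.2)

section Rel

variable {G : Type*} [Group G]

/-- action on the cyclic group of order 8 -/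
def Ac (f x : G) (r : Fin 8) : Prop := x * f = f ^ r.val * x

theorem p8_add {f : G} (h : f ^ 8 = 1) (a b : Fin 8) : f ^ (a + b).val = f ^ a.val * f ^ b.val := by
  rw [Fin.val_add, ← pow_eq_pow_mod _ h, pow_add]

theorem p8_mul {f : G} (h : f ^ 8 = 1) (a b : Fin 8) : f ^ (a * b).val = (f ^ a.val) ^ b.val := by
  rw [Fin.val_mul, ← pow_eq_pow_mod _ h, pow_mul]

namespace Ac

variable {f x y : G} {r s : Fin 8}

theorem pow (h8 : f ^ 8 = 1) (h : Ac f x r) (k : Fin 8) : x * f ^ k.val = f ^ (r * k).val * x := by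
  rw [p8_mul h8]; exact (SemiconjBy.pow_right h k.val).eq

theorem mul (h8 : f ^ 8 = 1) (h : Ac f x r) (h' : Ac f y s) : Ac f (x * y) (r * s) := by
  rw [Ac, mul_assoc, h', ← mul_assoc, h.pow h8, mul_assoc]

theorem inv (h8 : f ^ 8 = 1) (h : Ac f x r) (e : r * s = 1) : Ac f x⁻¹ s := by
  have := h.pow h8 s
  rw [e, Fin.val_one, pow_one] at this
  rw [Ac, inv_mul_eq_iff_eq_mul, ← mul_assoc, this, mul_inv_cancel_right]

theorem fpow (f : G) (n : ℕ) : Ac f (f ^ n) 1 := by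
  rw [Ac, Fin.val_one, pow_one, pow_mul_comm']

theorem one (f : G) : Ac f 1 1 := by simp [Ac]

end Ac

/-- the relations of the normalizer of `f` -/
structure R8 (α : Bool) (f u a : G) : Prop where
  f8 : f ^ 8 = 1
  u2 : u * u = 1
  uf : Ac f u 5
  af : Ac f a 7
  au : a * u = u * a
  a2 : a * a = f ^ (bif α then 4 else 0)

/-- the element with given code -/
def wN (f u a : G) (c : CN) : G :=
  f ^ c.i.val * ((bif c.j then u else 1) * (bif c.k then a else 1))

theorem R8.mul {α : Bool} {f u a : G} (h : R8 α f u a) (x y : CN) :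
    wN f u a (mN α x y) = wN f u a x * wN f u a y := by
  have hU : ∀ y : CN, u * wN f u a y = wN f u a ⟨5 * y.i, !y.j, y.k⟩ := by
    rintro ⟨i, j, k⟩
    simp only [wN]
    rw [← mul_assoc, h.uf.pow h.f8, mul_assoc, ← mul_assoc u]
    cases j <;> simp [h.u2]
  have hA : ∀ y : CN, a * wN f u a y =
      wN f u a ⟨7 * y.i + (bif α && y.k then 4 else 0), y.j, !y.k⟩ := by
    rintro ⟨i, j, k⟩
    have e : u * f ^ 4 = f ^ 4 * u := h.uf.pow h.f8 4
    simp only [wN]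
    rw [← mul_assoc, h.af.pow h.f8, mul_assoc, ← mul_assoc a, p8_add h.f8, mul_assoc]
    have := h.a2
    have e2 : a * (u * a) = u * (a * a) := by rw [← mul_assoc, h.au, mul_assoc]
    cases α <;> cases j <;> cases k <;> simp_all [h.au, mul_assoc]
  have hF : ∀ (i : Fin 8) (y : CN), f ^ i.val * wN f u a y = wN f u a ⟨i + y.i, y.j, y.k⟩ := by
    intro i y
    simp only [wN]
    rw [p8_add h.f8, mul_assoc]
  obtain ⟨i, j, k⟩ := x
  rw [wN.eq_1 f u a ⟨i, j, k⟩, mul_assoc, mul_assoc]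
  cases j <;> cases k <;> simp [hU, hA, hF, mN]

theorem wN_o (f u a : G) : wN f u a oN = 1 := by simp [wN, oN]
theorem wN_f (f u a : G) : wN f u a fN = f := by simp [wN, fN]
theorem wN_u (f u a : G) : wN f u a uN = u := by simp [wN, uN]
theorem wN_z (f u a : G) : wN f u a zN = f ^ 4 := by simp [wN, zN]
theorem wN_gu (f u a : G) : wN f u a guN = f * u := by simp [wN, guN]
theorem wN_i (f u a : G) (i : Fin 8) : wN f u a ⟨i, false, false⟩ = f ^ i.val := by simp [wN]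

theorem R8.pN {α : Bool} {f u a : G} (h : R8 α f u a) (i : Fin 8) :
    wN f u a (pN i) = (f * u) ^ i.val := by
  induction i using Fin.induction with
  | zero => simp [wN, MT.pN]
  | succ i ih =>
    rw [Fin.val_succ, pow_succ, ← Fin.val_castSucc, ← ih, ← wN_gu f u a, ← h.mul]
    exact congrArg _ ((by decide +kernel : ∀ α (i : Fin 7),
      MT.pN i.succ = mN α (MT.pN i.castSucc) guN) α i)

/-- the relations of the whole group -/
structure R9 (α β : Bool) (δ : Fin 8) (f u a b : G) : Prop extends R8 α f u a where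
  bf : b * f * b⁻¹ = f * u
  bu : b * u * b⁻¹ = u
  ba : b * a * b⁻¹ = wN f u a ⟨δ, true, true⟩
  b2 : b * b = f ^ (bif β then 4 else 0)

/-- the element with given code -/
def w8 (f u a b : G) (c : CN × Bool) : G := wN f u a c.1 * (bif c.2 then b else 1)

theorem R9.mul {α β : Bool} {δ : Fin 8} {f u a b : G} (h : R9 α β δ f u a b) (x y : CN × Bool) :
    w8 f u a b (m8 α β δ x y) = w8 f u a b x * w8 f u a b y := by
  have hB : ∀ y, b * wN f u a y = wN f u a (bN α δ y) * b := by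
    rintro ⟨i, j, k⟩
    rw [bN, h.toR8.mul, h.toR8.mul, h.pN, ← h.bf, conj_pow, ← mul_inv_eq_iff_eq_mul]
    have e1 := h.bu
    have e2 := h.ba
    cases j <;> cases k <;> simp only [cond_true, cond_false, wN_o, ← e2] <;> simp only [wN] <;>
      simp only [cond_true, cond_false, Fin.val_zero, pow_zero, one_mul, mul_one]
    · group
    · nth_rewrite 2 [← e1]; group
    · nth_rewrite 2 [← e1]; group
  obtain ⟨x, l⟩ := x
  obtain ⟨y, m⟩ := y
  have := h.b2
  simp only [w8, m8, h.toR8.mul]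
  cases l <;> cases m <;> cases β <;>
    simp_all [wN_o, wN_z, mul_assoc, ← mul_assoc b (wN f u a y)]

end Rel

variable {G : Type u} [Group G] [Finite G]

theorem inj_of_card {C : Type} [Fintype C] {w : C → G} {S : Subgroup G}
    (hm : ∀ g, g ∈ S ↔ ∃ x, w x = g) (hc : Fintype.card C ≤ Nat.card S) : Function.Injective w := by
  have : Function.Surjective fun x => (⟨w x, (hm _).2 ⟨x, rfl⟩⟩ : S) := fun g => by
    obtain ⟨x, e⟩ := (hm _).1 g.2; exact ⟨x, Subtype.ext e⟩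
  exact fun a b e => (this.bijective_of_nat_card_le (by rwa [Nat.card_eq_fintype_card])).1
    (Subtype.ext e)

/-- the hypothesis on the Sylow subgroup -/
structure H8' (P : Subgroup G) (f : G) : Prop where
  card : Nat.card P = 64
  mem : f ∈ P
  ord : orderOf f = 8
  self : ∀ x ∈ P, x * f = f * x → x ∈ zpowers f
  odd : ∀ k ∈ ({3, 5, 7} : Set ℕ), ∃ x ∈ P, x * f * x⁻¹ = f ^ k

namespace H8'

variable {P : Subgroup G} {f : G} (h : H8' P f)
include h

theorem f8 : f ^ 8 = 1 := h.ord ▸ pow_orderOf_eq_one f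

theorem zp {x : G} (hx : x ∈ zpowers f) : ∃ k : Fin 8, f ^ k.val = x := by
  obtain ⟨i, hi, e⟩ := (H9.mem_zpowers_iff_lt h.ord).1 hx
  exact ⟨⟨i, hi⟩, e⟩

theorem cen {x : G} (hx : x ∈ P) (e : Ac f x 1) : ∃ k : Fin 8, f ^ k.val = x :=
  h.zp (h.self x hx (by simpa [Ac] using e))

theorem pinj : Function.Injective fun k : Fin 8 => f ^ k.val := fun a b e =>
  Fin.ext (pow_injOn_Iio_orderOf (by simp [h.ord]) (by simp [h.ord]) e)

theorem r8 : ∃ α, ∃ u ∈ P, ∃ a ∈ P, R8 α f u a := by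
  have f8 := h.f8
  obtain ⟨x, hx, e⟩ := h.odd 5 (by simp)
  have e5 : Ac f x 5 := mul_inv_eq_iff_eq_mul.1 e
  obtain ⟨m, hm⟩ := h.cen (mul_mem hx hx) (e5.mul f8 e5)
  obtain ⟨k, hk⟩ := (by decide : ∀ m : Fin 8, 5 * m = m → ∃ k, 5 * k + m + k = 0) m (h.pinj (by
    apply mul_right_cancel (b := x)
    simp only
    rw [← e5.pow f8, hm, mul_assoc]))
  have u2 : x * f ^ k.val * (x * f ^ k.val) = 1 := by
    nth_rewrite 1 [e5.pow f8]
    rw [mul_assoc, ← mul_assoc x, ← hm, ← p8_add f8, ← p8_add f8, ← add_assoc, hk]; simp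
  have uf : Ac f (x * f ^ k.val) 5 := e5.mul f8 (Ac.fpow f _)
  have uP := mul_mem hx (pow_mem h.mem k.val)
  generalize x * f ^ k.val = u at u2 uf uP
  obtain ⟨y, hy, e⟩ := h.odd 7 (by simp)
  have e7 : Ac f y 7 := mul_inv_eq_iff_eq_mul.1 e
  obtain ⟨n, hn⟩ := h.cen (mul_mem (mul_mem (mul_mem hy uP) (inv_mem hy)) uP)
    (((e7.mul f8 uf).mul f8 (e7.inv f8 (s := 7) rfl)).mul f8 uf)
  have e1 : y * u = f ^ n.val * u * y := by rw [hn, mul_assoc _ u u, u2]; group
  obtain ⟨a, ha, af, au⟩ : ∃ a ∈ P, Ac f a 7 ∧ a * u = u * a := by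
    rcases (by decide : ∀ n : Fin 8, n + 5 * n = 0 → n = 0 ∨ n = 4) n (h.pinj (by
      have : f ^ n.val * u * (f ^ n.val * u) = 1 := by
        rw [← mul_inv_eq_iff_eq_mul.2 e1, conj_mul, u2]; simp
      rw [mul_assoc, ← mul_assoc u, uf.pow f8, mul_assoc, u2, mul_one, ← p8_add f8] at this
      simpa using this)) with rfl | rfl
    · exact ⟨y, hy, e7, by simpa using e1⟩
    · refine ⟨y * f, mul_mem hy h.mem, e7.mul f8 (by simpa using Ac.fpow f 1 : Ac f f 1), ?_⟩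
      have k1 : u * f ^ 5 = f * u := by simpa using uf.pow f8 5
      have k2 : u * f ^ 4 = f ^ 4 * u := uf.pow f8 4
      have k3 : y * f ^ 5 = f ^ 3 * y := e7.pow f8 5
      have k4 : y * f = f ^ 7 * y := e7
      have k5 : y * u = f ^ 4 * u * y := e1
      rw [mul_assoc, ← k1, ← mul_assoc, k5, ← k2, mul_assoc, k3, k4]; group
  obtain ⟨l, hl⟩ := h.cen (mul_mem ha ha) (af.mul f8 af)
  rcases (by decide : ∀ m : Fin 8, 7 * m = m → m = 0 ∨ m = 4) l (h.pinj (by
    apply mul_right_cancel (b := a)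
    simp only
    rw [← af.pow f8, hl, mul_assoc])) with rfl | rfl
  · exact ⟨false, u, uP, a, ha, f8, u2, uf, af, au, hl.symm⟩
  · exact ⟨true, u, uP, a, ha, f8, u2, uf, af, au, hl.symm⟩

theorem nor {α : Bool} {u a : G} (uP : u ∈ P) (aP : a ∈ P) (r : R8 α f u a) :
    (∀ g, g ∈ P ⊓ H9.Nor f ↔ ∃ c, wN f u a c = g) ∧ Nat.card ↥(P ⊓ H9.Nor f) = 32 := by
  have f8 := h.f8
  have k0 : ∀ x r, Ac f x r → x * f * x⁻¹ = f ^ r.val := fun x r e => mul_inv_eq_iff_eq_mul.2 e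
  have k : ∀ x r, Ac f x r → x ∈ H9.Nor f := fun x r e =>
    H9.mem_Nor.2 (k0 x r e ▸ pow_mem (mem_zpowers f) _)
  have m : ∀ c, wN f u a c ∈ P ⊓ H9.Nor f := by
    rintro ⟨i, j, l⟩
    have h1 : u ∈ P ⊓ H9.Nor f := ⟨uP, k _ _ r.uf⟩
    have h2 : a ∈ P ⊓ H9.Nor f := ⟨aP, k _ _ r.af⟩
    refine mul_mem ⟨pow_mem h.mem _, k _ _ (Ac.fpow f _)⟩ (mul_mem ?_ ?_)
    · cases j; exacts [one_mem _, h1]
    · cases l; exacts [one_mem _, h2]
  have k2 : ∀ r : Fin 8, r * 4 ≠ 0 → ∃ c, Ac f (wN f u a c) r := fun s hs => by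
    rcases (by decide : ∀ r : Fin 8, r * 4 ≠ 0 → r = 1 ∨ r = 5 ∨ r = 7 ∨ r = 5 * 7) s hs with
      rfl | rfl | rfl | rfl
    · exact ⟨oN, wN_o f u a ▸ Ac.one f⟩
    · exact ⟨uN, (wN_u f u a).symm ▸ r.uf⟩
    · exact ⟨⟨0, false, true⟩, by simpa [wN] using r.af⟩
    · exact ⟨⟨0, true, true⟩, by simpa [wN] using r.uf.mul f8 r.af⟩
  have k3 : ∀ g ∈ H9.Nor f, ∃ r : Fin 8, r * 4 ≠ 0 ∧ f ^ r.val = g * f * g⁻¹ := fun g hg => by
    obtain ⟨s, e⟩ := h.zp (H9.mem_Nor.1 hg)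
    refine ⟨s, fun e' => ?_, e⟩
    have := p8_mul f8 s 4
    rw [e', e, conj_pow] at this
    exact absurd (h.pinj (a₁ := 4) (a₂ := 0) (by simpa using this.symm)) (by decide)
  refine ⟨fun g => ⟨fun hg => ?_, by rintro ⟨c, rfl⟩; exact m c⟩, ?_⟩
  · obtain ⟨s, hs, e⟩ := k3 g hg.2
    obtain ⟨c, hc⟩ := k2 s hs
    have e2 := (by decide : ∀ r : Fin 8, r * 4 ≠ 0 → r * r = 1) s hs
    obtain ⟨i, hi⟩ := h.cen (mul_mem hg.1 (inv_mem (m c).1))
      (e2 ▸ Ac.mul f8 (mul_inv_eq_iff_eq_mul.1 e.symm) (hc.inv f8 e2))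
    exact ⟨_, by rw [r.mul ⟨i, false, false⟩ c, wN_i, hi, inv_mul_cancel_right]⟩
  · rw [← card_cj _ f, card_img h.pinj (fun r => r * 4 ≠ 0) fun x => ⟨fun ⟨g, hg, e⟩ =>
      e ▸ k3 g hg.2, fun ⟨s, hs, e⟩ => by
        obtain ⟨c, hc⟩ := k2 s hs; exact ⟨_, m c, (k0 _ _ hc).trans e⟩⟩,
      show P ⊓ H9.Nor f ⊓ Cen1 f = zpowers f from le_antisymm (fun x hx => h.self x hx.1.1
        (c1.1 hx.2)) (le_inf (le_inf (zpowers_le.2 h.mem) le_normalizer) (H9.zpowers_le_Cen f)),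
      Nat.card_zpowers, h.ord]
    decide

theorem r9 : ∃ α β, ∃ δ : Fin 8, ∃ u a b, R9 α β δ f u a b ∧ δ * 4 = 0 ∧
    (∀ g, g ∈ P ↔ ∃ c, w8 f u a b c = g) := by
  obtain ⟨α, u, uP, a, aP, r⟩ := h.r8
  obtain ⟨hm, hc⟩ := h.nor uP aP r
  have inj := inj_of_card hm (by rw [hc]; decide)
  have hi : ((P ⊓ H9.Nor f).subgroupOf P).index = 2 :=
    H9.index_subgroupOf_eq inf_le_left (by rw [hc, h.card])
  have two : ∀ x ∈ P, ∀ y ∈ P, (x * y ∈ P ⊓ H9.Nor f ↔
      (x ∈ P ⊓ H9.Nor f ↔ y ∈ P ⊓ H9.Nor f)) := fun x hx y hy =>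
    mul_mem_iff_of_index_two hi (a := ⟨x, hx⟩) (b := ⟨y, hy⟩)
  have cj : ∀ b ∈ P, ∀ c, ∃ d, wN f u a d = b * wN f u a c * b⁻¹ := fun b hb c => by
    have m := (hm _).2 ⟨c, rfl⟩
    refine (hm _).1 ((two _ (mul_mem hb m.1) _ (inv_mem hb)).2 ?_)
    rw [two _ hb _ m.1, inv_mem_iff]; simp [m]
  have nf : ∀ b ∈ P, b ∉ P ⊓ H9.Nor f → ∃ k : Fin 8, f ^ k.val = b * b * f * (b * b)⁻¹ :=
    fun b hb hn => h.zp (H9.mem_Nor.1 ((two b hb b hb).2 Iff.rfl).2)
  obtain ⟨b, hb, hn, bf⟩ : ∃ b ∈ P, b ∉ P ⊓ H9.Nor f ∧ b * f * b⁻¹ = f * u := by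
    obtain ⟨b, hb, hn⟩ := SetLike.not_le_iff_exists.1 fun e : P ≤ P ⊓ H9.Nor f => by
      have := card_le_of_le e; rw [hc, h.card] at this; omega
    obtain ⟨c, e⟩ := cj b hb fN
    rw [wN_f] at e
    obtain ⟨n, e2⟩ := (by decide +kernel : ∀ α c, mN α (mN α c c) (mN α c c) ≠ oN →
      (∀ i, c ≠ ⟨i, false, false⟩) → ∃ n, mN α n c = mN α guN n) α c (fun e' => by
        have := congrArg (wN f u a) e'
        rw [r.mul, r.mul, e, conj_mul, conj_mul, wN_o, conj_eq_one_iff] at this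
        exact absurd (h.pinj (a₁ := 4) (a₂ := 0) (by simpa [pow_succ, mul_assoc] using this))
          (by decide))
      fun i e' => hn ⟨hb, H9.mem_Nor.2 (by rw [← e, e', wN_i]; exact pow_mem (mem_zpowers f) _)⟩
    have m := (hm _).2 ⟨n, rfl⟩
    refine ⟨wN f u a n * b, mul_mem m.1 hb, fun e' => hn ((mul_mem_cancel_left m).1 e'), ?_⟩
    have := congrArg (wN f u a) e2
    rw [r.mul, r.mul, e, wN_gu] at this
    rw [← mul_inv_eq_iff_eq_mul.2 this]; group
  have bz : ∀ b : G, b * f * b⁻¹ = f * u → ∀ i : Fin 8, b * f ^ i.val * b⁻¹ = wN f u a (pN i) :=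
    fun b e i => by rw [r.pN, ← e, conj_pow]
  obtain ⟨b, hb, hn, bf, bu⟩ : ∃ b ∈ P, b ∉ P ⊓ H9.Nor f ∧ b * f * b⁻¹ = f * u ∧
      b * u * b⁻¹ = u := by
    obtain ⟨c, e⟩ := cj b hb uN
    obtain ⟨k, e1⟩ := nf b hb hn
    rw [wN_u] at e
    rcases (by decide +kernel : ∀ α c k, mN α c c = oN → mN α guN c = ⟨k, false, false⟩ →
      c = uN ∨ c = mN α uN (pN 4)) α c k (inj (by rw [r.mul, e, conj_mul, r.u2, wN_o]; simp))
      (inj (by rw [r.mul, wN_gu, wN_i, e1, e, ← bf, conj_mul, ← bf]; group)) with e2 | e2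
    · exact ⟨b, hb, hn, bf, by rw [← e, e2, wN_u]⟩
    · have m := (hm _).2 ⟨fN, wN_f f u a⟩
      refine ⟨b * f, mul_mem hb h.mem, fun e' => hn ((mul_mem_cancel_right m).1 e'),
        by rw [← bf]; group, ?_⟩
      have k1 : u * f ^ 5 = f * u := by simpa using r.uf.pow r.f8 5
      calc b * f * u * (b * f)⁻¹ = b * (f * u) * f⁻¹ * b⁻¹ := by group
        _ = (b * u * b⁻¹) * (b * f ^ 4 * b⁻¹) := by rw [← k1]; group
        _ = u := by
          rw [← e, show b * f ^ 4 * b⁻¹ = _ from bz b bf 4, ← r.mul, e2, (by decide : ∀ α, mN α (mN α uN (pN 4)) (pN 4) = uN),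
            wN_u]
  obtain ⟨m, e1⟩ := h.cen (mul_mem hb hb) (by
    rw [Ac, Fin.val_one, pow_one, ← mul_inv_eq_iff_eq_mul]
    calc b * b * f * (b * b)⁻¹ = b * (b * f * b⁻¹) * b⁻¹ := by group
      _ = (b * f * b⁻¹) * (b * u * b⁻¹) := by nth_rewrite 1 [bf]; group
      _ = f := by rw [bf, bu, mul_assoc, r.u2, mul_one])
  obtain ⟨β, e2⟩ : ∃ β, b * b = f ^ (bif β then 4 else 0) := by
    rcases (by decide : ∀ m, pN m = ⟨m, false, false⟩ → m = 0 ∨ m = 4) m (inj (by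
      rw [← bz b bf, wN_i, e1]; group)) with rfl | rfl
    exacts [⟨false, e1.symm⟩, ⟨true, e1.symm⟩]
  obtain ⟨c, e⟩ := cj b hb ⟨0, false, true⟩
  rw [show wN f u a ⟨0, false, true⟩ = a by simp [wN]] at e
  obtain ⟨δ, e3, e4⟩ := (by decide +kernel : ∀ α c, mN α c uN = mN α uN c →
    mN α c guN = mN α (pN 7) c → ∃ δ : Fin 8, δ * 4 = 0 ∧ c = ⟨δ, true, true⟩) α c
    (inj (by rw [r.mul, r.mul, wN_u, e, ← bu, conj_mul, conj_mul, r.au]))
    (inj (by rw [r.mul, r.mul, wN_gu, ← bz b bf, e, ← bf, conj_mul, conj_mul, r.af]))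
  refine ⟨α, β, δ, u, a, b, ⟨r, bf, bu, e4 ▸ e.symm, e2⟩, e3, fun g => ⟨fun hg => ?_, ?_⟩⟩
  · by_cases e : g ∈ P ⊓ H9.Nor f
    · obtain ⟨c, e⟩ := (hm g).1 e
      exact ⟨(c, false), by simp [w8, e]⟩
    · obtain ⟨c, e⟩ := (hm _).1 ((two g hg _ (inv_mem hb)).2 (by simp [e, hn]))
      exact ⟨(c, true), by simp [w8, e]⟩
  · rintro ⟨⟨c, l⟩, rfl⟩
    refine mul_mem ((hm _).2 ⟨c, rfl⟩).1 ?_
    cases l; exacts [one_mem _, hb]

end H8'

theorem m8_a : ∀ α β δ, m8 α β δ (oN, false) (oN, false) = (oN, false) ∧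
    (∀ x, m8 α β δ x (zN, false) = m8 α β δ (zN, false) x) ∧
    m8 α β δ (zN, false) (zN, false) = (oN, false) ∧
    m8 α β δ (uN, false) (zN, false) = (⟨4, true, false⟩, false) ∧
    m8 α β δ (uN, false) (⟨4, true, false⟩, false) = (zN, false) ∧
    m8 α β δ (⟨4, true, false⟩, false) (uN, false) = (zN, false) ∧
    m8 α β δ (fN, false) (uN, false) = m8 α β δ (⟨4, true, false⟩, false) (fN, false) := by
  decide +kernel

theorem m8_b : ∀ α β δ, δ * 4 = 0 → ∀ c, m8 α β δ (m8 α β δ c c) (m8 α β δ c c) = (oN, false) →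
    m8 α β δ c c = (oN, false) ∨ m8 α β δ c c = (zN, false) ∨ m8 α β δ c c = (uN, false) ∨
    m8 α β δ c c = (⟨4, true, false⟩, false) := by decide +kernel

set_option synthInstance.maxSize 1024 in
theorem m8_c : ∀ α β δ, δ * 4 = 0 → ∀ s, m8 α β δ s s = (oN, false) →
    s = (oN, false) ∨ s = (zN, false) ∨ s = (uN, false) ∨ s = (⟨4, true, false⟩, false) ∨
    (∃ c, m8 α β δ c s = m8 α β δ s c ∧ m8 α β δ c c = (zN, false)) ∨
    (m8 α β δ (uN, false) s = m8 α β δ s (uN, false) ∧ ∀ c, m8 α β δ c s = m8 α β δ s c →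
      c = (oN, false) ∨ c = (zN, false) ∨ c = (uN, false) ∨ c = (⟨4, true, false⟩, false) ∨
      ∃ d, m8 α β δ d s = m8 α β δ c d) := by decide +kernel

theorem iso_of_c8 [IsSimpleGroup G] (hG : ¬ IsMulCommutative G) {P : Subgroup G} {f : G}
    (h : H8' P f) (hP : IsSylowOf 2 P ⊤)
    (hc : ∃ x y : G, orderOf x = 2 ∧ orderOf y = 2 ∧ ¬ IsConj x y) : Nonempty (G ≃* Spor.M12) := by
  obtain ⟨α, β, δ, u, a, b, r, hδ, hm⟩ := h.r9
  have c : Cod (m8 α β δ) (w8 f u a b) P :=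
    ⟨r.mul, inj_of_card hm (by rw [h.card]; decide), hm, hP⟩
  obtain ⟨ho, hz, q1, q2, q3, q4, uu⟩ := m8_a α β δ
  have zu := c.fuse_u hG (u := (uN, false)) (u' := (⟨4, true, false⟩, false)) ho hz
    q1 (by decide) q2 q3 q4 ⟨_, uu⟩ (by decide) (m8_b α β δ hδ) (m8_c α β δ hδ)
  have key : ∀ l : CN × Bool → Bool, (∀ x y, l (m8 α β δ x y) = xor (l x) (l y)) →
      (∀ s, m8 α β δ s s = (oN, false) → l s = false → s = (oN, false) ∨ s = (zN, false) ∨
        s = (uN, false) ∨ s = (⟨4, true, false⟩, false)) → False := fun l h1 h2 => by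
    have k0 : ∀ x : G, orderOf x = 2 → ∀ s, l s = false → IsConj x (w8 f u a b s) →
        IsConj (w8 f u a b (zN, false)) x := fun x ox s ls e => by
      obtain ⟨k1, k2⟩ := c.sq_of ho ox e
      rcases h2 s k1 ls with rfl | rfl | rfl | rfl
      · exact absurd rfl k2
      · exact e.symm
      · exact zu.trans e.symm
      · exact (zu.trans (c.cj uu)).trans e.symm
    have k : ∀ x : G, orderOf x = 2 → IsConj (w8 f u a b (zN, false)) x := fun x ox => by
      obtain ⟨g, -, e⟩ := conj_in2 hP (mem_top x) (ii ox)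
      obtain ⟨s, e⟩ := (hm _).1 e
      have e1 : IsConj x (w8 f u a b s) := e ▸ isConj_mk g x
      cases ls : l s
      · exact k0 x ox s ls e1
      · obtain ⟨s', h3, h4⟩ := c.tt (no_index_two hG) l h1
          (ii ((H9.orderOf_of_isConj e1).trans ox)) ls
        exact k0 x ox s' h3 (e1.trans h4)
    obtain ⟨x, y, ox, oy, hn⟩ := hc
    exact hn ((k x ox).symm.trans (k y oy))
  by_cases h2 : δ * 2 = 0
  swap
  · exact (key (fun x => xor x.1.k x.2) (by
      rintro ⟨⟨_, _, k⟩, l⟩ ⟨⟨_, _, k'⟩, l'⟩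
      cases β <;> cases k <;> cases l <;> cases k' <;> cases l' <;> rfl)
      ((by decide +kernel : ∀ α β δ, δ * 4 = 0 → δ * 2 ≠ 0 → ∀ s, m8 α β δ s s = (oN, false) →
        xor s.1.k s.2 = false → s = (oN, false) ∨ s = (zN, false) ∨
        s = (uN, false) ∨ s = (⟨4, true, false⟩, false)) α β δ hδ h2)).elim
  cases β
  swap
  · exact (key (fun x => x.1.k) (by
      rintro ⟨⟨_, _, k⟩, l⟩ ⟨⟨_, _, k'⟩, l'⟩
      cases k <;> cases l <;> cases k' <;> cases l' <;> rfl)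
      ((by decide +kernel : ∀ α δ, δ * 2 = 0 → ∀ s, m8 α true δ s s = (oN, false) →
        s.1.k = false → s = (oN, false) ∨ s = (zN, false) ∨
        s = (uN, false) ∨ s = (⟨4, true, false⟩, false)) α δ h2)).elim
  cases α
  swap
  · obtain ⟨g, e1, e2⟩ := c.ext hz zu.symm
    obtain ⟨k1, k2, k3, k4, k5, k6⟩ := (by decide +kernel : ∀ δ, δ * 2 = 0 →
      m8 true false δ (oN, true) (uN, false) = m8 true false δ (uN, false) (oN, true) ∧
      m8 true false δ (⟨2, false, false⟩, true) (uN, false) =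
        m8 true false δ (uN, false) (⟨2, false, false⟩, true) ∧
      m8 true false δ (oN, true) (oN, true) = (oN, false) ∧
      m8 true false δ (⟨2, false, false⟩, true) (⟨2, false, false⟩, true) = (oN, false) ∧
      m8 true false δ (m8 true false δ (oN, true) (⟨2, false, false⟩, true))
        (m8 true false δ (oN, true) (⟨2, false, false⟩, true)) = (zN, false) ∧
      ∀ x, m8 true false δ x x = (oN, false) → ∀ y, m8 true false δ y y = (oN, false) →
        m8 true false δ (m8 true false δ x y) (m8 true false δ x y) = (oN, false) ∨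
        m8 true false δ (m8 true false δ x y) (m8 true false δ x y) = (zN, false)) δ h2
    obtain ⟨x, ex⟩ := e2 _ k1
    obtain ⟨y, ey⟩ := e2 _ k2
    have k : ∀ x s, w8 f u a b x = g * w8 f u a b s * g⁻¹ → m8 true false δ s s = (oN, false) →
        m8 true false δ x x = (oN, false) := fun x s e e' => c.inj (by
      rw [c.mul, e, conj_mul, ← c.mul, e', c.one ho]; simp)
    have e3 : w8 f u a b (m8 true false δ (m8 true false δ x y) (m8 true false δ x y)) =
        g * w8 f u a b (zN, false) * g⁻¹ := by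
      rw [← k5, c.mul, c.mul, c.mul, c.mul, ex, ey]; group
    rcases k6 x (k _ _ ex k3) y (k _ _ ey k4) with e | e <;> rw [e] at e3
    · rw [c.one ho, eq_comm, conj_eq_one_iff, ← c.one ho] at e3
      exact absurd (c.inj e3) (by decide)
    · exact absurd (c.inj (by simpa using e1.trans e3)) (by decide : (uN, false) ≠ (zN, false))
  obtain ⟨x, y, i, s, k1, k2, k3, k4, k5, k6, k7, k8⟩ : ∃ x y i s,
      m8 false false δ (m8 false false δ x x) (m8 false false δ x x) = (oN, false) ∧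
      m8 false false δ x y = m8 false false δ y x ∧ m8 false false δ i i = (oN, false) ∧
      m8 false false δ s s = (oN, false) ∧ m8 false false δ i s = m8 false false δ s i ∧
      m8 false false δ (m8 false false δ x i) x = i ∧
      m8 false false δ s x = m8 false false δ y s ∧
      m8 false false δ (m8 false false δ x x) (m8 false false δ y y) ≠ (oN, false) := by
    rcases (by decide : ∀ δ : Fin 8, δ * 2 = 0 → δ = 0 ∨ δ = 4) δ h2 with rfl | rfl
    · exact ⟨(⟨0, false, true⟩, true), (⟨2, false, true⟩, true), (oN, true),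
        (⟨1, false, true⟩, false), by decide +kernel⟩
    · exact ⟨(⟨0, false, true⟩, true), (⟨6, false, true⟩, true), (uN, true),
        (⟨1, false, true⟩, false), by decide +kernel⟩
  have R : Rel (w8 f u a b x) (w8 f u a b y) (w8 f u a b i) (w8 f u a b s) :=
    ⟨by rw [← c.one ho, ← k1, c.mul, c.mul, pow_succ, pow_three]; group, by rw [← c.mul, ← c.mul, k2],
      by rw [← c.mul, k3, c.one ho], by rw [← c.mul, k4, c.one ho], by rw [← c.mul, ← c.mul, k5],
      by rw [← c.mul, ← c.mul, k6], by rw [← c.mul, ← c.mul, k7]⟩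
  have inj := inj_of_z (j := R.hom) fun e => k8 (c.inj (by
    rw [c.mul, c.mul, c.mul, c.one ho, ← sq, ← sq, ← R.hom_z, e]))
  have h1 := (SJ.of_card inj le_rfl (m := 1) (by
    rw [← S0.card_S0, ← Nat.card_eq_fintype_card, mul_one]
    exact (Nat.card_congr (MonoidHom.ofInjective inj).toEquiv).symm) (by decide))
  exact SJ.isoM12 ⟨inj, hP.of_card_le h1.isPGroup le_top (by
    rw [h.card, ← S0.card_S0, ← Nat.card_eq_fintype_card]
    exact (Nat.card_congr (MonoidHom.ofInjective inj).toEquiv).le)⟩ hc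

end MT
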