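import Cfsg.Agent.MT.Gen

/-! Coded Sylow 2-subgroups and their fusion. -/

set_option autoImplicit false
set_option linter.unusedVariables false
set_option linter.unusedSectionVars false

namespace MT

open Cfsg Subgroup FT H4 H5 GW

variable {G : Type*} [Group G] [Finite G]

theorem card_img {C : Type} [Fintype C] {w : C → G} (hw : Function.Injective w) (p : C → Prop)
    [DecidablePred p] {A : G → Prop} (h : ∀ g, A g ↔ ∃ x, p x ∧ w x = g) :
    Nat.card {g // A g} = (Finset.univ.filter p).card := by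
  rw [← Fintype.card_subtype, ← Nat.card_eq_fintype_card]
  refine (Nat.card_congr (Equiv.ofBijective (fun a : {a // p a} =>
    (⟨w a, (h _).2 ⟨a, a.2, rfl⟩⟩ : {g // A g})) ⟨fun a b e => ?_, fun x => ?_⟩)).symm
  · exact Subtype.ext (hw (Subtype.mk.inj e))
  · obtain ⟨a, ha, e⟩ := (h x).1 x.2
    exact ⟨⟨a, ha⟩, Subtype.ext e⟩

theorem card_img_le {C : Type} [Fintype C] {w : C → G} (hw : Function.Injective w) (p : C → Prop)
    [DecidablePred p] {A : G → Prop} (h : ∀ g, A g → ∃ x, p x ∧ w x = g) :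
    Nat.card {g // A g} ≤ (Finset.univ.filter p).card := by
  rw [← card_img hw p (A := fun g => ∃ x, p x ∧ w x = g) fun _ => Iff.rfl]
  exact H9.card_subtype_le_of_imp h

/-- a Sylow 2-subgroup `S` coded by `C` -/
structure Cod {C : Type} (m : C → C → C) (w : C → G) (S : Subgroup G) : Prop where
  mul : ∀ x y, w (m x y) = w x * w y
  inj : Function.Injective w
  mem : ∀ g, g ∈ S ↔ ∃ x, w x = g
  syl : IsSylowOf 2 S ⊤

namespace Cod

variable {C : Type} {m : C → C → C} {w : C → G} {S : Subgroup G} (h : Cod m w S)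
include h

theorem wm (x : C) : w x ∈ S := (h.mem _).2 ⟨x, rfl⟩

theorem comm {x y : C} : w x ∈ Cen1 (w y) ↔ m x y = m y x := by
  rw [c1, ← h.mul, ← h.mul, h.inj.eq_iff]

theorem one {o : C} (ho : m o o = o) : w o = 1 := by
  have := h.mul o o
  rw [ho] at this
  exact mul_left_cancel (a := w o) (by rw [← this, mul_one])

theorem cj {d s c : C} (e : m d s = m c d) : IsConj (w s) (w c) :=
  isConj_iff.2 ⟨w d, by rw [← h.mul, e, h.mul, mul_inv_cancel_right]⟩

theorem sylZ {z : C} (hz : ∀ x, m x z = m z x) : IsSylowOf 2 S (⊤ ⊓ Cen1 (w z)) :=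
  h.syl.of_le (fun g hg => ⟨mem_top g, by
    obtain ⟨x, rfl⟩ := (h.mem g).1 hg; exact h.comm.2 (hz x)⟩) inf_le_left

theorem ext {z s : C} (hz : ∀ x, m x z = m z x) (hs : IsConj (w s) (w z)) :
    ∃ g, g * w s * g⁻¹ = w z ∧ ∀ c, m c s = m s c → ∃ c', w c' = g * w c * g⁻¹ := by
  obtain ⟨g, -, e, h1⟩ := ext0 (h.sylZ hz) (h.syl.isPGroup.to_le (inf_le_left (b := Cen1 (w s))))
    (inf_le_inf_right _ le_top) (cj_top.2 hs)
  exact ⟨g, e, fun c hc => (h.mem _).1 (h1 _ ⟨h.wm c, h.comm.2 hc⟩)⟩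

theorem zstar [IsSimpleGroup G] (hG : ¬ IsMulCommutative G) {z : C} (hz : ∀ x, m x z = m z x)
    (oz : orderOf (w z) = 2) : ∃ s, s ≠ z ∧ IsConj (w z) (w s) := by
  by_contra hn
  push Not at hn
  have h1 := zstar_in oz (mem_top _) (h.sylZ hz) fun x hx e => by
    obtain ⟨s, rfl⟩ := (h.mem x).1 hx
    by_contra e'
    exact hn s (fun e2 => e' (by rw [e2])) e.isConj
  rw [Oo, pPrimeCoreIn_top, H3.oddCore_eq_bot_of_simple oz, sup_bot_eq] at h1
  have h2 : (zpowers (w z)).Normal := normal_zp fun g => c1.1 (h1 (mem_top g)).2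
  rcases h2.eq_bot_or_eq_top with e | e
  · exact ine oz (mem_bot.1 (e ▸ mem_zpowers _))
  · exact hG ⟨⟨fun a b => H9.comm_of_mem_zpowers (e.ge (mem_top a)) (e.ge (mem_top b))⟩⟩

theorem tt (h2 : ∀ N : Subgroup G, N.index ≠ 2) (l : C → Bool)
    (hl : ∀ x y, l (m x y) = xor (l x) (l y)) {t : C} (ht : w t * w t = 1) (lt : l t = true) :
    ∃ s, l s = false ∧ IsConj (w t) (w s) := by
  choose c hc using fun g : S => (h.mem g).1 g.2
  have e : ∀ x, c ⟨w x, h.wm x⟩ = x := fun x => h.inj (hc _)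
  let χ : S →* ℤˣ := MonoidHom.mk' (fun g => bif l (c g) then -1 else 1) fun a b => by
    have : c (a * b) = m (c a) (c b) := h.inj (by rw [h.mul, hc, hc, hc]; rfl)
    simp only [this, hl]
    cases l (c a) <;> cases l (c b) <;> simp
  have k : ∀ x, w x ∈ kr χ ↔ l x = false := fun x => by
    rw [mem_kr (h.wm x)]
    change (bif l (c _) then (-1 : ℤˣ) else 1) = 1 ↔ _
    rw [e]
    cases l x <;> simp
  obtain ⟨φ, hφ⟩ := tt' h.syl (kr_le χ) (card_kr (h.wm t) (by rw [k, lt]; simp))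
  by_contra hn
  push Not at hn
  have h3 := card_kr (mem_top _) (hφ (w t) (mem_top _) ht fun s hs e => by
    obtain ⟨x, rfl⟩ := (h.mem s).1 (kr_le χ hs)
    exact hn x ((k x).1 hs) e.isConj)
  refine h2 (kr φ) (Nat.eq_of_mul_eq_mul_right (Nat.card_pos (α := kr φ)) ?_)
  rw [index_mul_card, ← h3, card_top]

theorem sq_of {o s : C} (ho : m o o = o) {a : G} (ha : orderOf a = 2) (e : IsConj a (w s)) :
    m s s = o ∧ s ≠ o := by
  have h1 := (H9.orderOf_of_isConj e).trans ha
  exact ⟨h.inj (by rw [h.mul, ii h1, h.one ho]), fun e' => ine h1 (by rw [e', h.one ho])⟩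

/-- the central involution is fused to `u` -/
theorem fuse_u [IsSimpleGroup G] (hG : ¬ IsMulCommutative G) {o z u u' : C} (ho : m o o = o)
    (hz : ∀ x, m x z = m z x) (z2 : m z z = o) (zo : z ≠ o) (e1 : m u z = u') (e2 : m u u' = z)
    (e3 : m u' u = z) (e4 : ∃ d, m d u = m u' d) (uo : u ≠ o)
    (h1 : ∀ c, m (m c c) (m c c) = o → m c c = o ∨ m c c = z ∨ m c c = u ∨ m c c = u')
    (h2 : ∀ s, m s s = o → s = o ∨ s = z ∨ s = u ∨ s = u' ∨ (∃ c, m c s = m s c ∧ m c c = z) ∨
      (m u s = m s u ∧ ∀ c, m c s = m s c → c = o ∨ c = z ∨ c = u ∨ c = u' ∨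
        ∃ d, m d s = m c d)) : IsConj (w z) (w u) := by
  by_contra hn
  have oz : orderOf (w z) = 2 := o2 (by rw [← h.mul, z2, h.one ho])
    fun e => zo (h.inj (e.trans (h.one ho).symm))
  obtain ⟨d, e4⟩ := e4
  have hn' : ¬ IsConj (w z) (w u') := fun e => hn (e.trans (h.cj e4).symm)
  have key : ∀ s, s ≠ z → IsConj (w z) (w s) → m u s = m s u ∧ ∀ c, m c s = m s c →
      c = o ∨ c = z ∨ c = u ∨ c = u' ∨ ∃ d, m d s = m c d := fun s sz hs => by
    obtain ⟨s2, so⟩ := h.sq_of ho oz hs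
    rcases h2 s s2 with e | e | rfl | rfl | ⟨c, hc, e⟩ | e
    · exact absurd e so
    · exact absurd e sz
    · exact absurd hs hn
    · exact absurd hs hn'
    · obtain ⟨g, g1, g2⟩ := h.ext hz hs.symm
      obtain ⟨c', e'⟩ := g2 c hc
      have e5 : w (m c' c') = g * w z * g⁻¹ := by rw [h.mul, e', ← e, h.mul]; group
      have c5 : IsConj (w z) (w (m c' c')) := e5 ▸ isConj_mk g _
      obtain ⟨k1, k2⟩ := h.sq_of ho oz c5
      rcases h1 c' k1 with k | k | k | k <;> rw [k] at c5 e5 k2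
      · exact absurd rfl k2
      · exact absurd (h.inj (by simpa using g1.trans e5)) sz
      · exact absurd c5 hn
      · exact absurd c5 hn'
    · exact e
  obtain ⟨s, sz, hs⟩ := h.zstar hG hz oz
  obtain ⟨g, g1, g2⟩ := h.ext hz hs.symm
  have us := (key s sz hs).1
  obtain ⟨a, ea⟩ := g2 u us
  obtain ⟨b, eb⟩ := g2 z (hz s).symm
  have e1' : w u' = w u * w z := by rw [← e1, h.mul]
  have ea' : w (m a b) = g * w u' * g⁻¹ := by rw [h.mul, ea, eb, e1']; group
  have bz : b ≠ z := fun e => by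
    rw [e] at eb
    exact sz (h.inj (by simpa using g1.trans eb))
  have hb : IsConj (w z) (w b) := eb ▸ isConj_mk g _
  have k : ∀ c c0, w c = g * w c0 * g⁻¹ → ¬ IsConj (w z) (w c0) → c0 ≠ o → c = u ∨ c = u' :=
    fun c c0 ec n0 n1 => by
    have cc : IsConj (w c0) (w c) := ec ▸ isConj_mk g _
    have : m c b = m b c := h.comm.1 (by
      rw [ec, eb, ← conj_c1, conj_mem_conjS_iff]; exact h.comm.2 (hz c0))
    rcases (key b bz hb).2 c this with rfl | rfl | e | e | ⟨d, e⟩
    · rw [h.one ho, isConj_one_left, ← h.one ho] at cc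
      exact absurd (h.inj cc) n1
    · exact absurd cc.symm n0
    · exact Or.inl e
    · exact Or.inr e
    · exact absurd ((hb.trans (h.cj e)).trans cc.symm) n0
  have u'o : u' ≠ o := fun e => by
    have := h.cj e4
    rw [e, h.one ho, isConj_one_left, ← h.one ho] at this
    exact uo (h.inj this)
  have eb' : w (m a (m a b)) = w b := by
    rw [h.mul, ea', ea, eb, ← e2, h.mul]; group
  have ab : a ≠ m a b := fun e => by
    have := congrArg w e
    rw [h.mul, eb] at this
    exact ine oz (by simpa using this)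
  rcases k a u ea hn uo with e | e <;> rcases k _ u' ea' hn' u'o with e' | e' <;>
    rw [e'] at eb' ab <;> rw [e] at eb' ab
  · exact ab rfl
  · exact bz (h.inj (by rw [← eb', e2]))
  · exact bz (h.inj (by rw [← eb', e3]))
  · exact ab rfl

end Cod

end MT
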