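import Cfsg.Agent.MT.Fus

/-! The centralizer of the central involution, modulo its core. -/

set_option autoImplicit false
set_option linter.unusedVariables false
set_option linter.unusedSectionVars false

namespace MT

open Cfsg Subgroup FT H4 H5 GW

universe u

variable {G : Type u} [Group G] [Finite G]

theorem ab_normal {A : Subgroup G} (hA : IsSylowOf 2 A ⊤) (he : IsElementaryAbelian 2 A)
    (h8 : 2 ^ 3 ≤ Nat.card A) (hO : pPrimeCore 2 G = ⊥)
    (hf : ∀ a ∈ A, a ≠ 1 → ∀ n ∈ Nor A, n ∈ Cen1 a → n * n ∈ Cen A) {a b : G} (ha : a ∈ A)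
    (hb : b ∈ A) (a1 : a ≠ 1) (b1 : b ≠ 1) (hn : ¬ IsConj a b) :
    ⊤ ≤ Nor A ∧ ∀ a ∈ A, a ≠ 1 → Cen1 a ≤ A := by
  have as : W.AS A ⊤ := ⟨hA, he.1⟩
  have sq : ∀ a ∈ A, a * a = 1 := fun a ha => Dich.mul_self_of_elem he ha
  have sd : ∀ a ∈ A, a ≠ 1 → SD (pPrimeCoreIn 2 (Cen1 a)) A (Cen1 a) := fun a ha a1 =>
    Burnside_normal_complement (hA.of_le (as.c1 ha) le_top) fun n hn => by
      obtain ⟨_, ⟨k, rfl⟩, e⟩ := as.odd_nor (mem_top n) hn.2
      have h1 := pow_mem (hf a ha a1 n hn.2 hn.1) k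
      have h2 := as.cen le_rfl e
      rw [pow_succ, pow_mul, pow_two] at h2
      exact (mul_mem_cancel_left h1).1 h2
  have cj : ∀ s : G, s * s = 1 → s ≠ 1 → ∃ g : G, ∃ a ∈ A, a ≠ 1 ∧ Cen1 s = conjS g (Cen1 a) :=
    fun s s2 s1 => by
    obtain ⟨g, -, e⟩ := conj_in2 hA (mem_top s) s2
    exact ⟨g⁻¹, _, e, ine (iconj (o2 s2 s1) g), by rw [conj_c1]; congr 1; group⟩
  have con : Dich.Con G := fun s s2 s1 => by
    obtain ⟨g, a, ha, a1, e⟩ := cj s s2 s1
    rw [e]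
    exact isPConstrained_of_isSolvable (isSolvable_map _ (solv_of_npc
      ((npc_iff_sd (hA.of_le (as.c1 ha) le_top)).2 (sd a ha a1))))
  have key : ∀ a ∈ A, a ≠ 1 → Cen1 a ≤ A := fun a ha a1 => by
    have h1 := con.core_eq_bot BS.seThm hO (fun s s2 s1 => by
      obtain ⟨g, a, ha, a1, e⟩ := cj s s2 s1
      rw [e]
      exact Dich.R3.conj ⟨A, as.c1 ha, he, h8⟩ g) (sq a ha) a1
    rw [← (sd a ha a1).sup, show pPrimeCoreIn 2 (Cen1 a) = ⊥ from h1, bot_sup_eq]
  refine ⟨top_le_iff.2 ?_, key⟩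
  by_contra hM
  obtain ⟨g, -, e⟩ := BS.oc_top_of_se (W.se_of_cen as (fun e => a1 (mem_bot.1 (e ▸ ha))) hM
    (fun a ha o => (key a ha (ine o)).trans le_normalizer) le_rfl) a (mem_top a) b (mem_top b)
    ⟨a1, sq a ha⟩ ⟨b1, sq b hb⟩
  exact hn (isConj_iff.2 ⟨g, e⟩)

theorem cz {z : G} (h : ∀ g, g * z = z * g) (a x : G) : a * (x * z) * a⁻¹ = a * x * a⁻¹ * z := by
  rw [mul_assoc _ a⁻¹ z, h a⁻¹]; group

/-- the elements fixing `x` modulo the central involution `z` -/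
def DD {z : G} (h : ∀ g, g * z = z * g) (h2 : z * z = 1) (x : G) : Subgroup G where
  carrier := {g | g * x * g⁻¹ = x ∨ g * x * g⁻¹ = x * z}
  one_mem' := Or.inl (by simp)
  mul_mem' := by
    intro a b ha hb
    have e : a * b * x * (a * b)⁻¹ = a * (b * x * b⁻¹) * a⁻¹ := by group
    rcases hb with hb | hb <;> rcases ha with ha | ha <;> simp only [Set.mem_ofPred_eq, e, hb,
      cz h, ha, mul_assoc x z z, h2, mul_one, true_or, or_true]
  inv_mem' := by
    intro a ha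
    have e : a⁻¹ * (a * x * a⁻¹) * a⁻¹⁻¹ = x := by group
    rcases ha with ha | ha <;> rw [ha] at e
    · exact Or.inl e
    · rw [cz h] at e
      exact Or.inr (by conv_rhs => rw [← e, mul_assoc _ z z, h2, mul_one])

theorem mDD {z : G} {h : ∀ g, g * z = z * g} {h2 : z * z = 1} {x g : G} :
    g ∈ DD h h2 x ↔ g * x * g⁻¹ = x ∨ g * x * g⁻¹ = x * z := Iff.rfl

theorem DD_conj {z : G} {h : ∀ g, g * z = z * g} {h2 : z * z = 1} {x g : G} (k : G)
    (hg : g ∈ DD h h2 x) : k * g * k⁻¹ ∈ DD h h2 (k * x * k⁻¹) := by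
  have e : k * g * k⁻¹ * (k * x * k⁻¹) * (k * g * k⁻¹)⁻¹ = k * (g * x * g⁻¹) * k⁻¹ := by group
  rcases hg with hg | hg
  · exact Or.inl (by rw [e, hg])
  · exact Or.inr (by rw [e, hg, cz h])

/-- the fusion data in the centralizer of `z` -/
structure CZ (j : S0 →* G) : Prop extends SJ j where
  cen : ∀ g, g * j z0 = j z0 * g
  ts : IsConj (j t0) (j s0)
  tr : IsConj (j t0) (j r0)
  vt : ∀ x y, inV x = true → isT y = true → ¬ IsConj (j x) (j y)

theorem card_Q0 : (Finset.univ.filter fun c => inQ c = true).card = 32 := by decide +kernel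

theorem SJ.card_Q {j : S0 →* G} (h : SJ j) : Nat.card (Q0.map j) = 32 :=
  (h.card_map _ _).trans card_Q0

theorem mapS (j : S0 →* G) (A : Subgroup S0) : A.map j ≤ j.range := map_le_range j A

namespace CZ

variable {j : S0 →* G} (h : CZ j)
include h

theorem mD {x g : S0} : j g ∈ DD h.cen (ii h.oz) (j x) ↔ g * x * g⁻¹ = x ∨ g * x * g⁻¹ = x * z0 := by
  rw [mDD, ← map_mul, ← map_inv, ← map_mul, ← map_mul, h.inj.eq_iff, h.inj.eq_iff]

theorem ne_Q {s : G} (hs : s ∈ Q0.map j) : ¬ IsConj (j e0) s := by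
  intro e
  obtain ⟨g, rfl⟩ := isConj_iff.1 e
  obtain ⟨R, r1, r2⟩ := exists_isSylowOf_ge (K := DD h.cen (ii h.oz) (g * j e0 * g⁻¹))
    ((h.syl.isPGroup.to_le (inf_le_left (b := DD h.cen (ii h.oz) (j e0)))).map
      (MulAut.conj g).toMonoidHom) (by rintro _ ⟨c, hc, rfl⟩; exact DD_conj g hc.2)
  have c1 := r1.card_le (h.syl.isPGroup.to_le (mapS j Q0)) (by
    obtain ⟨s, hs, e⟩ := hs
    rintro _ ⟨c, hc, rfl⟩
    rw [← e, h.mD]
    exact (by decide +kernel : ∀ c, inQ c = true → ∀ s, inQ s = true →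
      c * s * c⁻¹ = s ∨ c * s * c⁻¹ = s * z0) c hc s hs)
  obtain ⟨k, -, e⟩ := h.syl.exists_conj_le r1.isPGroup le_top
  have key : ∀ c : S0, (c * e0 * c⁻¹ = e0 ∨ c * e0 * c⁻¹ = e0 * z0) →
      ∃ c', j c' = k * g * j c * (k * g)⁻¹ := fun c hc => by
    obtain ⟨c', e'⟩ := e (conj_mem_conjS (r2 (conj_mem_conjS (g := g) ⟨⟨c, rfl⟩, h.mD.2 hc⟩)))
    exact ⟨c', e'.trans (by group)⟩
  obtain ⟨a, ea⟩ := key e0 (by decide)
  obtain ⟨b, eb⟩ := key (e0 * y0) (by decide)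
  obtain ⟨c, ec⟩ := key u0 (by decide)
  have ca : IsConj (j e0) (j a) := ea ▸ isConj_mk _ _
  have cb : IsConj (j (e0 * y0)) (j b) := eb ▸ isConj_mk _ _
  have cc : IsConj (j u0) (j c) := ec ▸ isConj_mk _ _
  have ab : IsConj (j a) (j b) :=
    ca.symm.trans ((cjS j (g := ⟨0, 1, false, true⟩) (by decide)).isConj.trans cb)
  have a2 := h.sq_of h.oe ca
  have aQ : inQ a = true := by
    by_contra aQ
    have c2 := card_img_le h.inj (fun c => c * a * c⁻¹ = a ∨ c * a * c⁻¹ = a * z0)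
      (A := (· ∈ conjS k R)) fun x hx => by
        obtain ⟨d, rfl⟩ := e hx
        refine ⟨d, h.mD.1 ?_, rfl⟩
        have := DD_conj k (r1.le (mem_conjS.1 hx))
        rwa [show k * (k⁻¹ * j d * k) * k⁻¹ = j d by group,
          show k * (g * j e0 * g⁻¹) * k⁻¹ = j a by rw [ea]; group] at this
    have c3 := (by decide +kernel : ∀ a : S0, a * a = 1 → ¬ inQ a = true → (Finset.univ.filter
      fun c => c * a * c⁻¹ = a ∨ c * a * c⁻¹ = a * z0).card = 16) a a2.1 aQ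
    have c4 := card_conjS k R
    rw [h.card_Q] at c1
    change Nat.card (conjS k R) ≤ _ at c2
    omega
  have k1 : ∀ {a b a' b' c' : S0}, j a = k * g * j a' * (k * g)⁻¹ →
      j b = k * g * j b' * (k * g)⁻¹ → a' * b' = c' * (b' * a') →
      j a * j b = k * g * j c' * (k * g)⁻¹ * (j b * j a) := fun e1 e2 e3 => by
    have := congrArg j e3
    simp only [map_mul] at this
    rw [e1, e2, conj_mul, conj_mul, conj_mul, this]
  have k2 : k * g * j z0 * (k * g)⁻¹ = j z0 := by rw [h.cen, mul_inv_cancel_right]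
  have c2 := h.sq_of h.ou cc
  rcases abc a aQ a2.1 b (h.sq_of (h.ord (by decide) (by decide)) cb).1
    (h.inj (by rw [map_mul, k1 ea eb (c' := z0) (by decide), k2, map_mul, map_mul])) c c2.1
    (by
      by_contra hc
      rcases (by simpa [inZ, ← or_iff_not_imp_left] using hc : c = 1 ∨ c = z0) with rfl | rfl
      · exact c2.2 rfl
      · rw [← k2] at ec
        exact absurd (h.inj (by simpa using ec)) (by decide : z0 ≠ u0))
    (by by_contra hc; exact h.vt u0 c (by decide) (by simpa using hc) cc)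
    (h.inj (by rw [map_mul, k1 ea ec (c' := 1) (by decide), map_mul]; simp))
    (h.inj (by rw [map_mul, k1 eb ec (c' := 1) (by decide), map_mul]; simp)) with e | e
  · exact h.vt a b e.1 e.2 ab
  · exact h.vt b a e.1 e.2 ab.symm

end CZ

end MT
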