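import Cfsg.Agent.MT.Cz

/-! The centralizer of the central involution, modulo its core: `2^{1+4}_+ . S₃`. -/

set_option autoImplicit false
set_option linter.unusedVariables false
set_option linter.unusedSectionVars false

namespace MT

open Cfsg Subgroup FT H4 H5 GW

universe u

variable {G : Type u} [Group G] [Finite G]

/-- optional factor -/
def pw (x : S0) (b : Bool) : S0 := bif b then x else 1
/-- the value at `q` of the endomorphism of `Q / Z` given on generators -/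
def wd (a1 a2 a3 a4 q : S0) : S0 :=
  pw a1 (q.a != q.b) * pw a2 (od q.a) * pw a3 (xor q.i (od q.a)) * pw a4 q.s
/-- equality modulo `z` -/
def eqv (x y : S0) : Prop := x = y ∨ x = y * z0
instance decEqv (x y : S0) : Decidable (eqv x y) := by unfold eqv; infer_instance

theorem wd_id : ∀ q, inQ q = true → eqv q (wd u0 v0 t0 s0 q) := by decide +kernel
theorem wd_fpf : ∀ a1, inV a1 = true → inZ a1 = false → ∀ a2, inV a2 = true → inZ a2 = false →
    inZ (a1 * a2) = false → ∀ a3, isT a3 = true → a1 * a3 = a3 * a1 → a2 * a3 ≠ a3 * a2 →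
    ∀ a4, isT a4 = true → a1 * a4 ≠ a4 * a1 → a2 * a4 = a4 * a2 → a3 * a4 = a4 * a3 →
    (∃ q, inQ q = true ∧ inZ q = false ∧ eqv q (wd a1 a2 a3 a4 q)) →
    ∀ q, inQ q = true → eqv q (wd a1 a2 a3 a4 (wd a1 a2 a3 a4 q)) := by decide +kernel

theorem gen_Q : ∀ q, inQ q = true → ∃ a : Fin 4, ∃ b c d : Bool,
    q = (x0 * s0 * x0⁻¹ * s0⁻¹) ^ a.1 * pw (x0 * t0 * x0⁻¹ * t0⁻¹) b * pw t0 c * pw s0 d := by
  decide +kernel

theorem pw_mem {j : S0 →* G} {K : Subgroup G} {x : S0} (h : j x ∈ K) (b : Bool) :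
    j (pw x b) ∈ K := by
  cases b
  · exact (map_one j).symm ▸ one_mem K
  · exact h

theorem SJ.zfix {j : S0 →* G} (h : SJ j) {n : G} (hn : n ∈ Cen1 (j z0)) {a b : S0}
    (e : j a = n * j b * n⁻¹) (hb : inZ b = false) : inZ a = false := by
  by_contra hc
  rcases (by simpa [inZ, ← or_iff_not_imp_left] using hc : a = 1 ∨ a = z0) with rfl | rfl
  · rw [h.inj (show j b = j 1 by simpa using e.symm)] at hb
    exact absurd hb (by decide)
  · rw [← c1'.1 hn] at e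
    rw [h.inj (show j b = j z0 by simpa using e.symm)] at hb
    exact absurd hb (by decide)

theorem SJ.comm_iff {j : S0 →* G} (h : SJ j) {n : G} {a b a' b' : S0} (e : j a = n * j a' * n⁻¹)
    (e' : j b = n * j b' * n⁻¹) : a * b = b * a ↔ a' * b' = b' * a' := by
  rw [← h.inj.eq_iff, ← h.inj.eq_iff (a := a' * b'), map_mul, map_mul, map_mul, map_mul, e, e',
    conj_mul, conj_mul, mul_left_inj, mul_right_inj]

theorem vt_cases : ∀ a, inQ a = true → a * a = 1 → inV a = true ∨ isT a = true := by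
  decide +kernel

namespace CZ

variable {j : S0 →* G} (h : CZ j)
include h

theorem mV {a b : S0} (ha : inQ a = true) (hb : inV b = true) (e : IsConj (j b) (j a)) :
    inV a = true :=
  (vt_cases a ha (h.inj (by
    obtain ⟨g, e⟩ := isConj_iff.1 e
    rw [map_mul, ← e, conj_mul, ← map_mul,
      (by decide +kernel : ∀ b, inV b = true → b * b = 1) b hb]; simp))).resolve_right
    fun h1 => h.vt b a hb h1 e

theorem mT {a b : S0} (ha : inQ a = true) (hb : isT b = true) (e : IsConj (j b) (j a)) :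
    isT a = true :=
  (vt_cases a ha (h.inj (by
    obtain ⟨g, e⟩ := isConj_iff.1 e
    rw [map_mul, ← e, conj_mul, ← map_mul,
      (by decide +kernel : ∀ b, isT b = true → b * b = 1) b hb]; simp))).resolve_left
    fun h1 => h.vt a b h1 hb e.symm

theorem act2 {n : G} (hn : n ∈ Nor (Q0.map j)) {a : S0} (aQ : inQ a = true) (aZ : inZ a = false)
    (ha : n ∈ DD h.cen (ii h.oz) (j a)) {q : S0} (hq : inQ q = true) :
    n * n ∈ DD h.cen (ii h.oz) (j q) := by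
  have ψ : ∀ q, inQ q = true → ∃ q', inQ q' = true ∧ j q' = n * j q * n⁻¹ := fun q hq =>
    cmem hn ⟨q, hq, rfl⟩
  have nz : n ∈ Cen1 (j z0) := c1.2 (h.cen n)
  obtain ⟨a1, q1, e1⟩ := ψ u0 (by decide)
  obtain ⟨a2, q2, e2⟩ := ψ v0 (by decide)
  obtain ⟨a3, q3, e3⟩ := ψ t0 (by decide)
  obtain ⟨a4, q4, e4⟩ := ψ s0 (by decide)
  have p : ∀ {a b : S0}, j a = n * j b * n⁻¹ → ∀ c, j (pw a c) = n * j (pw b c) * n⁻¹ :=
    fun e c => by cases c <;> simp [pw, e]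
  have W : ∀ q, j (wd a1 a2 a3 a4 q) = n * j (wd u0 v0 t0 s0 q) * n⁻¹ := fun q => by
    simp only [wd, map_mul, p e1, p e2, p e3, p e4, conj_mul]
  have E : ∀ q, inQ q = true → n * j q * n⁻¹ = j (wd a1 a2 a3 a4 q) ∨
      n * j q * n⁻¹ = j (wd a1 a2 a3 a4 q * z0) := fun q hq => by
    rcases wd_id q hq with e | e
    · exact Or.inl (by rw [W, ← e])
    · exact Or.inr (by rw [map_mul, W, ← cz h.cen, ← map_mul, ← e])
  have zz : ∀ x, x * z0 * z0 = x := by decide +kernel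
  have key := wd_fpf a1 (h.mV q1 (by decide) (e1 ▸ isConj_mk n _)) (h.zfix nz e1 (by decide))
    a2 (h.mV q2 (by decide) (e2 ▸ isConj_mk n _)) (h.zfix nz e2 (by decide))
    (h.zfix nz (b := u0 * v0) (by rw [map_mul, map_mul, e1, e2, conj_mul]) (by decide))
    a3 (h.mT q3 (by decide) (e3 ▸ isConj_mk n _)) ((h.comm_iff e1 e3).2 (by decide))
    (fun e => absurd ((h.comm_iff e2 e3).1 e) (by decide))
    a4 (h.mT q4 (by decide) (e4 ▸ isConj_mk n _))
    (fun e => absurd ((h.comm_iff e1 e4).1 e) (by decide)) ((h.comm_iff e2 e4).2 (by decide))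
    ((h.comm_iff e3 e4).2 (by decide)) ⟨a, aQ, aZ, by
      rcases ha with e | e <;> rcases E a aQ with e' | e' <;> rw [e] at e'
      · exact Or.inl (h.inj e')
      · exact Or.inr (h.inj e')
      · exact Or.inr (by rw [← h.inj ((map_mul j _ _).trans e'), zz])
      · exact Or.inl (mul_right_cancel (h.inj ((map_mul j _ _).trans e')))⟩ q hq
  have hq' : inQ (wd a1 a2 a3 a4 q) = true := by
    obtain ⟨q', h1, h2⟩ := ψ (wd u0 v0 t0 s0 q)
      ((by decide +kernel : ∀ q, inQ q = true → inQ (wd u0 v0 t0 s0 q) = true) q hq)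
    rwa [h.inj (h2.trans (W q).symm)] at h1
  have e0 : n * n * j q * (n * n)⁻¹ = n * (n * j q * n⁻¹) * n⁻¹ := by group
  rw [mDD, e0, ← map_mul]
  rcases E q hq with e | e <;> rcases E _ hq' with e' | e' <;> rcases key with k | k <;>
    simp only [e, map_mul j _ z0, cz h.cen, e'] <;> simp only [← map_mul, zz, h.inj.eq_iff] <;>
    first | exact Or.inl k.symm | exact Or.inr (by rw [← k]) | exact Or.inr (by
      conv_rhs => rw [k, zz])

theorem main1 (hO : pPrimeCore 2 G = ⊥) : ∃ K : Subgroup G, Nat.card G = 2 * Nat.card K ∧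
    K ⊔ j.range = ⊤ ∧ K ≤ Nor (Q0.map j) ∧ K ⊓ Cen1 (j u0) ≤ Q0.map j := by
  obtain ⟨φ, hφ⟩ := tt' h.syl (mapS j Q0) (by rw [h.card_S, h.card_Q])
  have he := hφ _ (mem_top _) (ii h.oe) fun s hs e => h.ne_Q hs e.isConj
  have ht : j t0 ∈ kr φ := kr_three φ (mem_top _) (cj_top.2 h.ts)
    (by rw [← map_mul]; exact cj_top.2 h.tr)
  have cm : ∀ a b, j (a * b * a⁻¹ * b⁻¹) ∈ kr φ := fun a b => by
    simp only [map_mul, map_inv]; exact kr_comm φ (mem_top _) (mem_top _)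
  have hQ : Q0.map j ≤ kr φ := by
    rintro _ ⟨q, hq, rfl⟩
    obtain ⟨a, b, c, d, rfl⟩ := gen_Q q hq
    rw [map_mul, map_mul, map_mul, map_pow]
    exact mul_mem (mul_mem (mul_mem (pow_mem (cm _ _) _) (pw_mem (cm _ _) b)) (pw_mem ht c))
      (pw_mem (kr_cj (cj_top.2 h.ts) ht) d)
  have sy := syl_kr h.syl (mapS j Q0) hQ (by rw [h.card_S, h.card_Q]) ⟨e0, rfl⟩ he
  have zK : j z0 ∈ kr φ := hQ ⟨z0, rfl, rfl⟩
  have zc' : ∀ g : kr φ, g * ⟨_, zK⟩ = ⟨_, zK⟩ * g := fun g => Subtype.ext (h.cen g)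
  have := normal_zp zc'
  let f := QuotientGroup.mk' (zpowers (⟨_, zK⟩ : kr φ))
  have hf : Function.Surjective f := QuotientGroup.mk'_surjective _
  have hk : f.ker = zpowers (⟨_, zK⟩ : kr φ) := QuotientGroup.ker_mk' _
  have z2 : (⟨_, zK⟩ : kr φ) * ⟨_, zK⟩ = 1 := Subtype.ext (ii h.oz)
  have fe : ∀ x y : kr φ, f x = f y ↔ (x : G) = y ∨ (x : G) = y * j z0 := fun x y => by
    rw [eq_comm, ← inv_mul_eq_one, ← map_inv, ← map_mul, ← MonoidHom.mem_ker, hk]
    refine ⟨fun e => (mem_zp2 z2 e).imp (fun e => ?_) fun e => ?_, fun e => ?_⟩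
    · rw [inv_mul_eq_one.1 e]
    · rw [inv_mul_eq_iff_eq_mul.1 e]; rfl
    · rcases e with e | e
      · rw [Subtype.ext e, inv_mul_cancel]; exact one_mem _
      · rw [show x = y * ⟨_, zK⟩ from Subtype.ext e, inv_mul_cancel_left]; exact mem_zpowers _
  have fc : ∀ x y : kr φ, f x ∈ Cen1 (f y) ↔ (x : G) ∈ DD h.cen (ii h.oz) y := fun x y => by
    rw [c1', ← map_inv, ← map_mul, ← map_mul, fe]; rfl
  have hk' : f.ker = (zpowers (j z0)).subgroupOf (kr φ) := by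
    rw [hk]; ext x
    exact ⟨by rintro ⟨k, rfl⟩; exact ⟨k, rfl⟩, fun ⟨k, e⟩ => ⟨k, Subtype.ext e⟩⟩
  have zQ : zpowers (j z0) ≤ Q0.map j := zpowers_le.2 ⟨z0, rfl, rfl⟩
  have pr : pre f (im f (Q0.map j)) = Q0.map j := pre_im_of_le hk' zQ hQ
  have O1 : pPrimeCore 2 (kr φ) = ⊥ := by
    rw [← map_eq_bot_iff_of_injective _ (kr φ).subtype_injective]
    exact BS.eq_bot_of_odd hO ((kr_nor φ).trans (nOo _)) (odd_Oo _)
  have mA : ∀ a ∈ im f (Q0.map j), ∃ q, ∃ hq : inQ q = true, f ⟨j q, hQ ⟨q, hq, rfl⟩⟩ = a := by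
    rintro _ ⟨⟨_, hx⟩, ⟨q, hq, rfl⟩, rfl⟩; exact ⟨q, hq, rfl⟩
  have ne1 : ∀ q hq, f ⟨j q, hq⟩ ≠ 1 ↔ inZ q = false := fun q hq => by
    rw [Ne, ← map_one f, fe]
    change ¬ (j q = 1 ∨ j q = 1 * j z0) ↔ _
    rw [one_mul, ← map_one j, h.inj.eq_iff, h.inj.eq_iff]
    simp [inZ]
  obtain ⟨k1, k2⟩ := ab_normal (A := im f (Q0.map j)) (im_self hf ▸ sy.im le_rfl)
    ⟨⟨⟨fun a b => Subtype.ext (by
      obtain ⟨p, hp, e⟩ := mA a a.2
      obtain ⟨q, hq, e'⟩ := mA b b.2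
      rw [coe_mul, coe_mul, ← e, ← e', ← c1, fc, h.mD]
      exact (by decide +kernel : ∀ c, inQ c = true → ∀ s, inQ s = true →
        c * s * c⁻¹ = s ∨ c * s * c⁻¹ = s * z0) p hp q hq)⟩⟩, fun a ha => by
      obtain ⟨p, hp, rfl⟩ := mA a ha
      rw [← map_pow, ← not_ne_iff, show (⟨j p, _⟩ : kr φ) ^ 2 = ⟨j (p ^ 2), by
        rw [map_pow]; exact pow_mem (hQ ⟨p, hp, rfl⟩) 2⟩ from Subtype.ext (map_pow j p 2).symm, ne1]
      exact (by decide +kernel : ∀ p, inQ p = true → ¬ inZ (p ^ 2) = false) p hp⟩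
    (by
      have := card_eq_card_im_mul hk' hQ
      rw [inf_eq_right.2 zQ, Nat.card_zpowers, h.oz, h.card_Q] at this
      omega)
    (core_central f hf O1 zc' hk) (fun a ha a1 n n1 n2 => by
      obtain ⟨p, hp, rfl⟩ := mA a ha
      obtain ⟨n, rfl⟩ := hf n
      refine cen_iff_le.2 fun b hb => ?_
      obtain ⟨q, hq, rfl⟩ := mA b hb
      rw [c1s, ← map_mul, fc]
      exact h.act2 (pr ▸ pre_normalizer_le _ (coe_mem_pre.2 n1)) hp ((ne1 _ _).1 a1)
        ((fc _ _).1 n2) hq)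
    (mem_im_of_mem (hQ ⟨u0, rfl, rfl⟩) ⟨u0, rfl, rfl⟩)
    (mem_im_of_mem ht ⟨t0, rfl, rfl⟩) ((ne1 _ _).2 (by decide)) ((ne1 _ _).2 (by decide))
    (fun e => by
      obtain ⟨y, e⟩ := isConj_iff.1 e
      obtain ⟨y, rfl⟩ := hf y
      rw [← map_inv, ← map_mul, ← map_mul, fe] at e
      rcases e with e | e
      · exact h.vt u0 t0 (by decide) (by decide) (isConj_iff.2 ⟨y, e⟩)
      · exact h.vt u0 (t0 * z0) (by decide) (by decide) (isConj_iff.2 ⟨y, by rwa [map_mul]⟩))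
  refine ⟨kr φ, by rw [← card_top, card_kr (mem_top _) he], eq_top_iff.2 fun g _ => ?_, ?_, ?_⟩
  · by_cases hg : g ∈ kr φ
    · exact mem_sup_left hg
    · exact mem_of_eq (mul_mem (mem_sup_left (mul_mem_kr (mem_top g) (mem_top _) hg he))
        (mem_sup_right ⟨e0⁻¹, rfl⟩)) (by simp)
  · rw [← pr]; exact le_normalizer_pre le_rfl (le_top.trans k1)
  · intro g hg
    rw [← pr]
    exact mem_pre.2 ⟨hg.1, k2 _ (mem_im_of_mem (hQ ⟨u0, rfl, rfl⟩) ⟨u0, rfl, rfl⟩)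
      ((ne1 _ _).2 (by decide)) ((fc _ _).2 (Or.inl (c1'.1 hg.2)))⟩

theorem main (hO : pPrimeCore 2 G = ⊥) :
    ⊤ ≤ Nor (Q0.map j) ∧ Nat.card G = 192 ∧ IsConj (j u0) (j v0) := by
  obtain ⟨K, c1, c2, c3, c4⟩ := h.main1 hO
  have n1 : ⊤ ≤ Nor (Q0.map j) := c2.ge.trans (sup_le c3 (by
    rw [MonoidHom.range_eq_map]
    exact map_le_normalizer_map j fun g _ => mnor
      ((by decide +kernel : ∀ g k : S0, inQ k = true → inQ (g * k * g⁻¹) = true) g)))
  have l1 : 12 ≤ Nat.card {x // Cj ⊤ (j t0) x} := by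
    rw [← (by decide +kernel : (Finset.univ.filter fun c => isT c = true).card = 12),
      ← card_img h.inj (fun c => isT c = true) (A := fun g => ∃ c, isT c = true ∧ j c = g)
        fun _ => Iff.rfl]
    refine H9.card_subtype_le_of_imp ?_
    rintro _ ⟨c, hc, rfl⟩
    obtain ⟨g, e | e | e⟩ := (by decide +kernel : ∀ c, isT c = true → ∃ g, g * t0 * g⁻¹ = c ∨
      g * s0 * g⁻¹ = c ∨ g * r0 * g⁻¹ = c) c hc <;> have := (cjS j e).isConj
    · exact cj_top.2 this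
    · exact cj_top.2 (h.ts.trans this)
    · exact cj_top.2 (h.tr.trans this)
  have l2 := card_le_of_le (inf_le_inf_right (Cen1 (j t0)) (le_top (a := j.range)))
  have l3 := card_cj ⊤ (j t0)
  rw [h.card_cen, tt_t.2.2.2] at l2
  rw [card_top] at l3
  have l4 : ∀ x, Cj K (j u0) x → ∃ c, (inV c = true ∧ inZ c = false) ∧ j c = x := by
    rintro _ ⟨g, hg, rfl⟩
    obtain ⟨c, hc, e⟩ := cmem (c3 hg) ⟨u0, rfl, rfl⟩
    exact ⟨c, ⟨h.mV hc rfl (e ▸ isConj_mk g _), h.zfix (GW.c1.2 (h.cen g)) e rfl⟩, e⟩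
  have l5 := card_img h.inj (fun c => inV c = true ∧ inZ c = false)
    (A := fun x => ∃ c, (inV c = true ∧ inZ c = false) ∧ j c = x) fun _ => Iff.rfl
  have l6 := card_img_le h.inj (fun c => inQ c = true ∧ c * u0 = u0 * c)
    (A := (· ∈ K ⊓ Cen1 (j u0))) fun x hx => by
      obtain ⟨c, hc, rfl⟩ := c4 hx
      exact ⟨c, ⟨hc, h.comm.1 hx.2⟩, rfl⟩
  rw [(by decide +kernel : (Finset.univ.filter fun c => inV c = true ∧ inZ c = false).card = 6)]
    at l5
  rw [(by decide +kernel : (Finset.univ.filter fun c => inQ c = true ∧ c * u0 = u0 * c).card = 16)]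
    at l6
  have l7 := card_cj K (j u0)
  have l8 := (H9.card_subtype_le_of_imp l4).trans l5.le
  change Nat.card ↥(K ⊓ Cen1 (j u0)) ≤ 16 at l6
  have l9 : 192 ≤ Nat.card G := by nlinarith
  have l10 : 6 ≤ Nat.card {x // Cj K (j u0) x} := by nlinarith
  exact ⟨n1, by nlinarith, (H9.imp_of_card_le l4 (l5.le.trans l10) _ ⟨v0, by decide, rfl⟩).isConj⟩

end CZ

end MT
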