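import Mathlib.Algebra.Group.Subgroup.Ker
import Mathlib.Algebra.Group.MinimalAxioms
import Mathlib.Algebra.Group.Fin.Basic
import Mathlib.Data.Fintype.Prod
import Mathlib.Data.Fintype.Card
import Mathlib.Tactic.Abel
import Mathlib.Tactic.Group
import Mathlib.Tactic.FinCases

/-! The group `(Z₄ × Z₄) : (Z₂ × Z₂)` of order 64, a Sylow 2-subgroup of `M₁₂`. -/

set_option autoImplicit false

namespace MT

/-- `(a, b) ι^i σ^s`, where `ι` inverts `Z₄ × Z₄` and `σ` swaps the coordinates -/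
structure S0 where
  a : Fin 4
  b : Fin 4
  i : Bool
  s : Bool
  deriving DecidableEq

namespace S0

/-- optional sign change -/
def sg (i : Bool) (c : Fin 4) : Fin 4 := bif i then -c else c

instance instMulS0 : Mul S0 := ⟨fun x y => ⟨x.a + sg x.i (bif x.s then y.b else y.a),
  x.b + sg x.i (bif x.s then y.a else y.b), xor x.i y.i, xor x.s y.s⟩⟩
instance instOneS0 : One S0 := ⟨⟨0, 0, false, false⟩⟩
instance instInvS0 : Inv S0 := ⟨fun x => ⟨-sg x.i (bif x.s then x.b else x.a),
  -sg x.i (bif x.s then x.a else x.b), x.i, x.s⟩⟩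

theorem mul_def (x y : S0) : x * y = ⟨x.a + sg x.i (bif x.s then y.b else y.a),
  x.b + sg x.i (bif x.s then y.a else y.b), xor x.i y.i, xor x.s y.s⟩ := rfl

/-- coordinates -/
def equivProd : Fin 4 × Fin 4 × Bool × Bool ≃ S0 where
  toFun x := ⟨x.1, x.2.1, x.2.2.1, x.2.2.2⟩
  invFun x := (x.a, x.b, x.i, x.s)
  left_inv _ := rfl
  right_inv _ := rfl

instance instFintypeS0 : Fintype S0 := Fintype.ofEquiv _ equivProd

instance instGroupS0 : Group S0 := Group.ofLeftAxioms (by
  rintro ⟨a, b, i, s⟩ ⟨c, d, k, t⟩ ⟨e, f, l, r⟩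
  cases i <;> cases s <;> cases k <;> cases t <;> simp [mul_def, sg, add_assoc] <;>
    constructor <;> abel) (by decide +kernel) (by decide +kernel)

theorem card_S0 : Fintype.card S0 = 64 := by decide +kernel

end S0

/-- the central involution -/
def z0 : S0 := ⟨2, 2, false, false⟩
def u0 : S0 := ⟨2, 0, false, false⟩
def v0 : S0 := ⟨1, 1, true, false⟩
def t0 : S0 := ⟨0, 0, true, false⟩
def e0 : S0 := ⟨1, 0, true, false⟩
def s0 : S0 := ⟨0, 0, false, true⟩
def r0 : S0 := ⟨0, 0, true, true⟩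
def x0 : S0 := ⟨1, 0, false, false⟩
def y0 : S0 := ⟨1, 1, false, false⟩

/-- parity -/
def od (c : Fin 4) : Bool := c == 1 || c == 3

def inQ (x : S0) : Bool := od x.a == od x.b
def inW (x : S0) : Bool := !x.s
def inU (x : S0) : Bool := !x.s && !x.i && !od x.a && !od x.b
def inV (x : S0) : Bool := !x.s && od x.a == x.i && od x.b == x.i
def inE (x : S0) : Bool := !x.s && !od x.a && !od x.b
def inZ (x : S0) : Bool := x == 1 || x == z0
/-- the involutions outside `Q` -/
def isE (x : S0) : Bool := !x.s && x.i && !inQ x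
/-- the involutions in `Q - V` -/
def isT (x : S0) : Bool := x * x == 1 && inQ x && !inV x

/-- the subgroup given by a Boolean predicate -/
def sub (p : S0 → Bool) (h : p 1 = true ∧ ∀ x, p x = true → p x⁻¹ = true ∧
    ∀ y, p y = true → p (x * y) = true) : Subgroup S0 where
  carrier := {x | p x = true}
  one_mem' := h.1
  mul_mem' hx hy := (h.2 _ hx).2 _ hy
  inv_mem' hx := (h.2 _ hx).1

def Q0 : Subgroup S0 := sub inQ (by decide +kernel)
def W0 : Subgroup S0 := sub inW (by decide +kernel)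
def U0 : Subgroup S0 := sub inU (by decide +kernel)
def V0 : Subgroup S0 := sub inV (by decide +kernel)
def E0 : Subgroup S0 := sub inE (by decide +kernel)

theorem mQ {x : S0} : x ∈ Q0 ↔ inQ x = true := Iff.rfl
theorem mW {x : S0} : x ∈ W0 ↔ inW x = true := Iff.rfl
theorem mU {x : S0} : x ∈ U0 ↔ inU x = true := Iff.rfl
theorem mV {x : S0} : x ∈ V0 ↔ inV x = true := Iff.rfl
theorem mE {x : S0} : x ∈ E0 ↔ inE x = true := Iff.rfl

theorem pow8 : ∀ x : S0, x ^ 8 = 1 := by decide +kernel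

theorem classes : ∀ x : S0, x * x = 1 → x ≠ 1 → ∃ g : S0, g * z0 * g⁻¹ = x ∨ g * u0 * g⁻¹ = x ∨
    g * v0 * g⁻¹ = x ∨ g * t0 * g⁻¹ = x ∨ g * e0 * g⁻¹ = x ∨ g * s0 * g⁻¹ = x ∨
    g * r0 * g⁻¹ = x := by decide +kernel

theorem abc : ∀ a : S0, inQ a = true → a * a = 1 → ∀ b : S0, b * b = 1 → a * b = z0 * (b * a) →
    ∀ c : S0, c * c = 1 → inZ c = false → isT c = false → a * c = c * a → b * c = c * b →
      (inV a = true ∧ isT b = true) ∨ (inV b = true ∧ isT a = true) := by decide +kernel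

end MT
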