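import Cfsg.Agent.MT.Cod
import Cfsg.Agent.MT.S0

/-! Fusion of involutions in a simple group with Sylow 2-subgroup of type `M₁₂`. -/

set_option autoImplicit false
set_option linter.unusedVariables false
set_option linter.unusedSectionVars false

namespace MT

open Cfsg Subgroup FT H4 H5 GW

variable {G : Type*} [Group G] [Finite G]

theorem zc : ∀ x : S0, x * z0 = z0 * x := by decide +kernel

/-- the squares in the centralizer of `s` are `1` and `z`, and the centralizer has order 16 -/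
def TT (s : S0) : Prop := s * s = 1 ∧ (∀ c, c * s = s * c → c * c = 1 ∨ c * c = z0) ∧
  (∃ c, c * s = s * c ∧ c * c = z0) ∧ (Finset.univ.filter fun c => c * s = s * c).card = 16

instance decTT (s : S0) : Decidable (TT s) := by unfold TT; infer_instance

theorem tt_t : TT t0 := by decide +kernel
theorem tt_s : TT s0 := by decide +kernel
theorem tt_r : TT r0 := by decide +kernel
theorem big_cen : ∀ s : S0, s * s = 1 → 16 < (Finset.univ.filter fun c => c * s = s * c).card →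
    s = 1 ∨ s = z0 ∨ s = u0 ∨ s = s0 * u0 * s0⁻¹ := by decide +kernel

/-- an embedding of `S0` as a Sylow 2-subgroup -/
structure SJ (j : S0 →* G) : Prop where
  inj : Function.Injective j
  syl : IsSylowOf 2 j.range ⊤

theorem cjS (j : S0 →* G) {g a b : S0} (e : g * a * g⁻¹ = b) : Cj j.range (j a) (j b) :=
  ⟨j g, ⟨g, rfl⟩, by rw [← e, map_mul, map_mul, map_inv]⟩

namespace SJ

variable {j : S0 →* G} (h : SJ j)
include h

theorem cod : Cod (fun x y => x * y) j j.range := ⟨map_mul j, h.inj, fun _ => Iff.rfl, h.syl⟩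

theorem comm {x y : S0} : j x ∈ Cen1 (j y) ↔ x * y = y * x := h.cod.comm

theorem ord {x : S0} (h1 : x * x = 1) (h2 : x ≠ 1) : orderOf (j x) = 2 := by
  rw [orderOf_injective j h.inj]; exact o2 h1 h2

theorem oz : orderOf (j z0) = 2 := h.ord (by decide) (by decide)
theorem ou : orderOf (j u0) = 2 := h.ord (by decide) (by decide)
theorem ot : orderOf (j t0) = 2 := h.ord (by decide) (by decide)
theorem oe : orderOf (j e0) = 2 := h.ord (by decide) (by decide)

theorem sq_of {a : G} (ha : orderOf a = 2) {s : S0} (e : IsConj a (j s)) : s * s = 1 ∧ s ≠ 1 :=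
  h.cod.sq_of (mul_one 1) ha e

theorem SH : j.range ≤ Cen1 (j z0) := by rintro _ ⟨x, rfl⟩; exact h.comm.2 (zc x)

theorem sylH : IsSylowOf 2 j.range (Cen1 (j z0)) := h.syl.of_le h.SH le_top

theorem card_cen (s : S0) : Nat.card ↥(j.range ⊓ Cen1 (j s)) =
    (Finset.univ.filter fun c => c * s = s * c).card :=
  card_img h.inj _ fun g => ⟨by rintro ⟨⟨x, rfl⟩, e⟩; exact ⟨x, h.comm.1 e, rfl⟩,
    by rintro ⟨x, e, rfl⟩; exact ⟨⟨x, rfl⟩, h.comm.2 e⟩⟩

theorem card_map (p : S0 → Bool) (hp) :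
    Nat.card ((sub p hp).map j) = (Finset.univ.filter fun c => p c = true).card :=
  card_img h.inj _ fun g => Iff.rfl

theorem card_S : Nat.card j.range = 64 := by
  rw [← S0.card_S0, ← Nat.card_eq_fintype_card]
  exact (Nat.card_congr (MonoidHom.ofInjective h.inj).toEquiv).symm

theorem fix_z {s s' : S0} (hs : TT s) (hs' : TT s') {g : G}
    (hg : ∀ c ∈ j.range ⊓ Cen1 (j s), g * c * g⁻¹ ∈ j.range ⊓ Cen1 (j s')) : g ∈ Cen1 (j z0) := by
  obtain ⟨c, c1, c2⟩ := hs.2.2.1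
  obtain ⟨⟨d, e⟩, e'⟩ := hg _ ⟨⟨c, rfl⟩, h.comm.2 c1⟩
  rw [← e] at e'
  have e2 : j (d * d) = g * j z0 * g⁻¹ := by rw [map_mul, e, ← c2, map_mul]; group
  rcases hs'.2.1 d (h.comm.1 e') with e3 | e3 <;> rw [e3] at e2
  · exact absurd (e2.symm.trans (map_one j)) (ine (iconj h.oz g))
  · exact c1'.2 e2.symm

theorem sylT (zu : IsConj (j z0) (j u0)) {s : S0} (hs : TT s) (s1 : s ≠ 1)
    (hn : ¬ IsConj (j z0) (j s)) :
    IsSylowOf 2 (j.range ⊓ Cen1 (j s)) (⊤ ⊓ Cen1 (j s)) := by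
  by_contra hc
  obtain ⟨R, r1, r2, r3⟩ := ex_gt (h.syl.isPGroup.to_le inf_le_left)
    (inf_le_inf_right _ le_top) hc
  obtain ⟨k, hk, e⟩ := h.sylH.exists_conj_le r1 fun g hg => h.fix_z hs hs fun c => cmem (r3 hg).2
  obtain ⟨s', e'⟩ := e (conj_mem_conjS (r2.le ⟨⟨s, rfl⟩, c1.2 rfl⟩))
  have c : IsConj (j s) (j s') := e' ▸ isConj_mk k _
  have h1 : Nat.card (conjS k R) ≤ _ := (card_le_of_le (le_inf e (by
    rw [e', ← conj_c1]; exact conjS_mono k fun g hg => (r3 hg).1.2))).trans (h.card_cen s').le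
  have h2 := card_lt_of_lt r2
  rw [h.card_cen, hs.2.2.2, ← card_conjS k] at h2
  obtain ⟨k1, k2⟩ := h.sq_of (h.ord hs.1 s1) c
  rcases big_cen s' k1 (h2.trans_le h1) with rfl | rfl | rfl | rfl
  · exact k2 rfl
  · exact hn c.symm
  · exact hn (zu.trans c.symm)
  · exact hn ((zu.trans (cjS j rfl).isConj).trans c.symm)

/-- fusion of elements of type `TT` takes place in `C(z)` -/
theorem cjH (zu : IsConj (j z0) (j u0)) {s s' : S0} (hs : TT s) (hs' : TT s') (s1 : s' ≠ 1)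
    (hn : ¬ IsConj (j z0) (j s')) (e : IsConj (j s) (j s')) : ∃ g ∈ Cen1 (j z0),
      g * j s * g⁻¹ = j s' ∧ ∀ c ∈ j.range ⊓ Cen1 (j s), g * c * g⁻¹ ∈ j.range ⊓ Cen1 (j s') := by
  obtain ⟨g, -, e1, e2⟩ := ext0 (h.sylT zu hs' s1 hn) (h.syl.isPGroup.to_le inf_le_left)
    (inf_le_inf_right _ le_top) (cj_top.2 e)
  exact ⟨g, h.fix_z hs hs' e2, e1, e2⟩

theorem tr1 (h2 : ∀ N : Subgroup G, N.index ≠ 2) (zu : IsConj (j z0) (j u0)) {s : S0}
    (os : orderOf (j s) = 2) (hn : ¬ IsConj (j z0) (j s)) (l : S0 → Bool)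
    (hl : ∀ x y, l (x * y) = xor (l x) (l y)) {a b : S0}
    (hc : ∀ x, x * x = 1 → x ≠ 1 → l x = false → ∃ g, g * z0 * g⁻¹ = x ∨ g * u0 * g⁻¹ = x ∨
      g * a * g⁻¹ = x ∨ g * b * g⁻¹ = x) : IsConj (j s) (j a) ∨ IsConj (j s) (j b) := by
  by_contra hh
  have k : ∀ x, IsConj (j s) (j x) → l x = true := fun x hx => by
    by_contra hx'
    obtain ⟨k1, k2⟩ := h.sq_of os hx
    obtain ⟨g, e | e | e | e⟩ := hc x k1 k2 (by simpa using hx') <;> have := (cjS j e).isConj
    · exact hn (this.trans hx.symm)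
    · exact hn (zu.trans (this.trans hx.symm))
    · exact hh (Or.inl (hx.trans this.symm))
    · exact hh (Or.inr (hx.trans this.symm))
  obtain ⟨x, h3, h4⟩ := h.cod.tt h2 l hl (ii os) (k s (IsConj.refl _))
  rw [k x h4] at h3
  exact absurd h3 (by decide)

theorem tr (h2 : ∀ N : Subgroup G, N.index ≠ 2) (zu : IsConj (j z0) (j u0)) {s : S0}
    (os : orderOf (j s) = 2) (hn : ¬ IsConj (j z0) (j s)) : IsConj (j s) (j s0) ∧
      IsConj (j s) (j r0) ∧ (IsConj (j s) (j t0) ∨ IsConj (j s) (j v0)) :=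
  ⟨(h.tr1 h2 zu os hn (fun x => x.i) (by decide +kernel) (a := s0) (b := s0)
    (by decide +kernel)).elim id id,
  (h.tr1 h2 zu os hn (fun x => xor x.i x.s) (by decide +kernel) (a := r0) (b := r0)
    (by decide +kernel)).elim id id,
  h.tr1 h2 zu os hn (fun x => xor (!inQ x) x.s) (by decide +kernel) (by decide +kernel)⟩

theorem conj_in {x : G} (hx : x * x = 1) : ∃ s, IsConj x (j s) := by
  obtain ⟨g, -, s, e⟩ := conj_in2 h.syl (mem_top x) hx
  exact ⟨s, e ▸ isConj_mk g x⟩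

end SJ

/-- the fusion pattern with two classes -/
structure Pat (j : S0 →* G) : Prop extends SJ j where
  zu : IsConj (j z0) (j u0)
  zv : IsConj (j z0) (j v0)
  ts : IsConj (j t0) (j s0)
  tr : IsConj (j t0) (j r0)
  ne : ¬ IsConj (j z0) (j t0)
  ec : IsConj (j z0) (j e0) ∨ IsConj (j t0) (j e0)

theorem SJ.pat {j : S0 →* G} (h : SJ j) (h2 : ∀ N : Subgroup G, N.index ≠ 2)
    (zu : IsConj (j z0) (j u0)) (ne : ¬ IsConj (j z0) (j t0)) : Pat j := by
  obtain ⟨ts, tr, -⟩ := h.tr h2 zu h.ot ne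
  have k : ∀ s, orderOf (j s) = 2 → IsConj (j z0) (j s) ∨ IsConj (j t0) (j s) := fun s os =>
    (em _).imp id fun hn => ts.trans (h.tr h2 zu os hn).1.symm
  refine ⟨h, zu, (k v0 (h.ord (by decide) (by decide))).resolve_right fun tv => ?_, ts, tr, ne,
    k e0 h.oe⟩
  obtain ⟨g, hg, e1, e2⟩ := h.cjH zu tt_t tt_s (by decide) (fun e => ne (e.trans ts.symm)) ts
  obtain ⟨⟨a, e3⟩, e4⟩ := e2 _ ⟨⟨u0, rfl⟩, h.comm.2 (by decide)⟩
  rw [← e3] at e4
  have c : IsConj (j z0) (j a) := zu.trans (e3 ▸ isConj_mk g _)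
  obtain ⟨k1, k2⟩ := h.sq_of h.oz c
  have : ∀ a : S0, a * a = 1 → a ≠ 1 → a * s0 = s0 * a → a = z0 ∨ ∃ g, g * v0 * g⁻¹ = a ∨
    g * t0 * g⁻¹ = a ∨ g * s0 * g⁻¹ = a ∨ g * r0 * g⁻¹ = a := by decide +kernel
  rcases this a k1 k2 (h.comm.1 e4) with rfl | ⟨d, e | e | e | e⟩
  · exact absurd (h.inj (by simpa using (c1'.1 hg).trans e3)) (by decide : z0 ≠ u0)
  all_goals have := (cjS j e).isConj
  · exact ne (c.trans (tv.trans this).symm)
  · exact ne (c.trans this.symm)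
  · exact ne (c.trans (ts.trans this).symm)
  · exact ne (c.trans (tr.trans this).symm)

/-- the automorphism interchanging `V` and `V*` -/
def om : S0 →* S0 := MonoidHom.mk' (fun x => ⟨x.a + bif x.i then 1 else 0,
  x.b + bif x.i then 1 else 0, x.i, x.s⟩) (by decide +kernel)

theorem om_bij : Function.Bijective om :=
  Finite.injective_iff_bijective.1 (by unfold Function.Injective; decide +kernel)

theorem no_index_two [IsSimpleGroup G] (hG : ¬ IsMulCommutative G) (N : Subgroup G) :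
    N.index ≠ 2 := fun e =>
  H5.Dich.no_index_two_of_simple hG N (normal_of_index_eq_two e) e

theorem SJ.exists_pat [IsSimpleGroup G] (hG : ¬ IsMulCommutative G) {j : S0 →* G} (h : SJ j)
    (hc : ∃ x y : G, orderOf x = 2 ∧ orderOf y = 2 ∧ ¬ IsConj x y) :
    ∃ j' : S0 →* G, Pat j' := by
  have h2 := no_index_two hG
  have zu : IsConj (j z0) (j u0) := h.cod.fuse_u hG (o := 1) (u' := u0 * z0) (mul_one 1) zc
    (by decide) (by decide) rfl (by decide) (by decide) (by decide +kernel) (by decide)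
    (by decide +kernel) (by decide +kernel)
  by_cases ne : IsConj (j z0) (j t0)
  · obtain ⟨s, os, hn⟩ : ∃ s, orderOf (j s) = 2 ∧ ¬ IsConj (j z0) (j s) := by
      obtain ⟨x, y, ox, oy, hn⟩ := hc
      obtain ⟨a, ha⟩ := h.conj_in (ii ox)
      obtain ⟨b, hb⟩ := h.conj_in (ii oy)
      by_cases e : IsConj (j z0) (j a)
      · exact ⟨b, (H9.orderOf_of_isConj hb).trans oy, fun e' =>
          hn ((ha.trans e.symm).trans (e'.trans hb.symm))⟩
      · exact ⟨a, (H9.orderOf_of_isConj ha).trans ox, e⟩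
    have h' : SJ (j.comp om) := ⟨h.inj.comp om_bij.1, by
      rw [MonoidHom.range_comp, MonoidHom.range_eq_top.2 om_bij.2, ← MonoidHom.range_eq_map]
      exact h.syl⟩
    exact ⟨_, h'.pat h2 zu fun e => (h.tr h2 zu os hn).2.2.elim (fun e' => hn (ne.trans e'.symm))
      fun e' => hn (IsConj.trans e e'.symm)⟩
  · exact ⟨j, h.pat h2 zu ne⟩

end MT
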