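import Cfsg.Agent.MT.Cz2

/-! The structure of a centralizer of order 192. -/

set_option autoImplicit false
set_option linter.unusedVariables false
set_option linter.unusedSectionVars false

namespace MT

open Cfsg Subgroup FT H4 H5 GW

universe u

variable {G : Type u} [Group G] [Finite G]

/-- fusion in `C(z)` -/
structure HF (j : S0 →* G) : Prop extends SJ j where
  uv : Cj (Cen1 (j z0)) (j u0) (j v0)
  ts : Cj (Cen1 (j z0)) (j t0) (j s0)
  tr : Cj (Cen1 (j z0)) (j t0) (j r0)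
  vt : ∀ x y, inV x = true → isT y = true → ¬ Cj (Cen1 (j z0)) (j x) (j y)

/-- `C(z)` has order 192 -/
structure HS (j : S0 →* G) : Prop extends HF j where
  nQ : Cen1 (j z0) ≤ Nor (Q0.map j)
  card : Nat.card (Cen1 (j z0)) = 192

theorem SJ.cjH' {j : S0 →* G} (h : SJ j) {g a b : S0} (e : g * a * g⁻¹ = b) :
    Cj (Cen1 (j z0)) (j a) (j b) := (cjS j e).mono h.SH

theorem HF.cls {j : S0 →* G} (h : HF j) {x : G} (hx : x ∈ Cen1 (j z0)) (o : orderOf x = 2) :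
    x = j z0 ∨ Cj (Cen1 (j z0)) (j u0) x ∨ Cj (Cen1 (j z0)) (j t0) x ∨
      Cj (Cen1 (j z0)) (j e0) x := by
  obtain ⟨k, hk, s, e⟩ := conj_in2 h.sylH hx (ii o)
  have c : Cj (Cen1 (j z0)) (j s) x := (e ▸ cj_mk hk x : Cj _ x (j s)).symm
  obtain ⟨s1, s2⟩ := h.sq_of o c.symm.isConj
  obtain ⟨g, e | e | e | e | e | e | e⟩ := classes s s1 s2 <;> have := (h.cjH' e).trans c
  · obtain ⟨l, hl, rfl⟩ := this; exact Or.inl (c1'.1 hl)
  · exact Or.inr (Or.inl this)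
  · exact Or.inr (Or.inl (h.uv.trans this))
  · exact Or.inr (Or.inr (Or.inl this))
  · exact Or.inr (Or.inr (Or.inr this))
  · exact Or.inr (Or.inr (Or.inl (h.ts.trans this)))
  · exact Or.inr (Or.inr (Or.inl (h.tr.trans this)))

theorem HF.cjT {j : S0 →* G} (h : HF j) {c : S0} (hc : isT c = true) :
    Cj (Cen1 (j z0)) (j t0) (j c) := by
  obtain ⟨g, e | e | e⟩ := (by decide +kernel : ∀ c, isT c = true → ∃ g, g * t0 * g⁻¹ = c ∨
    g * s0 * g⁻¹ = c ∨ g * r0 * g⁻¹ = c) c hc <;> have := h.cjH' e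
  · exact this
  · exact h.ts.trans this
  · exact h.tr.trans this

theorem SJ.norU {j : S0 →* G} (h : SJ j) {g : G} {a b c d : S0} (ha : inU a = true)
    (hb : inU b = true) (hc : inU c = true) (hd : inU d = true)
    (h1 : ∀ x, inU x = true → x = 1 ∨ x = a ∨ x = b ∨ x = a * b) (e1 : j c = g * j a * g⁻¹)
    (e2 : j d = g * j b * g⁻¹) : g ∈ Nor (U0.map j) := mnor (by
  rintro _ ⟨x, hx, rfl⟩
  rcases h1 x hx with rfl | rfl | rfl | rfl
  · simp
  · exact ⟨c, hc, e1⟩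
  · exact ⟨d, hd, e2⟩
  · exact ⟨c * d, U0.mul_mem hc hd, by rw [map_mul, map_mul, e1, e2, conj_mul]⟩)

theorem SJ.nor_of {j : S0 →* G} (h : SJ j) {p : S0 → Bool} {hp}
    (h1 : ∀ g k : S0, p k = true → p (g * k * g⁻¹) = true) : j.range ≤ Nor ((sub p hp).map j) := by
  rw [MonoidHom.range_eq_map]
  exact map_le_normalizer_map j fun g _ => mnor (h1 g)

namespace HS

variable {j : S0 →* G} (h : HS j)
include h

theorem act {g : G} (hg : g ∈ Cen1 (j z0)) {q : S0} (hq : inQ q = true) :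
    ∃ a, inQ a = true ∧ j a = g * j q * g⁻¹ ∧ (inV q = true → inV a = true) ∧
      (isT q = true → isT a = true) := by
  obtain ⟨a, ha, e⟩ := cmem (h.nQ hg) ⟨q, hq, rfl⟩
  have c : Cj (Cen1 (j z0)) (j q) (j a) := ⟨g, hg, e.symm⟩
  have k : q * q = 1 → a * a = 1 := fun e' => h.inj (by
    rw [map_mul, e, conj_mul, ← map_mul, e']; simp)
  exact ⟨a, ha, e, fun h1 => (vt_cases a ha (k ((by decide +kernel : ∀ b, inV b = true →
    b * b = 1) q h1))).resolve_right fun h2 => h.vt q a h1 h2 c, fun h1 => (vt_cases a ha (k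
    ((by decide +kernel : ∀ b, isT b = true → b * b = 1) q h1))).resolve_left fun h2 =>
      h.vt a q h2 h1 c.symm⟩

theorem nV : Cen1 (j z0) ≤ Nor (V0.map j) := fun g hg => mnor (by
  rintro _ ⟨x, hx, rfl⟩
  obtain ⟨a, -, e, h1, -⟩ := h.act hg ((by decide +kernel : ∀ b, inV b = true → inQ b = true) x hx)
  exact ⟨a, h1 hx, e⟩)

theorem nU : Cen1 (j z0) ⊓ Nor (U0.map j) ≤ j.range := by
  have h1 : j.range ≤ Cen1 (j z0) ⊓ Nor (U0.map j) := le_inf h.SH (h.nor_of (by decide +kernel))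
  obtain ⟨k, hk⟩ := card_dvd_of_le h1
  obtain ⟨l, hl⟩ := card_dvd_of_le (inf_le_left : Cen1 (j z0) ⊓ Nor (U0.map j) ≤ _)
  rw [h.card_S] at hk
  rw [h.card, hk] at hl
  have : k * l = 3 := by nlinarith
  rcases (Nat.dvd_prime Nat.prime_three).1 (Dvd.intro _ this) with rfl | rfl
  · exact (eq_of_le_of_card_ge h1 (by rw [hk, h.card_S])).ge
  · obtain ⟨g, hg, e⟩ := h.uv
    have e2 := eq_of_le_of_card_ge (inf_le_left : Cen1 (j z0) ⊓ Nor (U0.map j) ≤ _)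
      (by rw [hk, h.card])
    obtain ⟨a, ha, e3⟩ := cmem (e2.ge hg).2 ⟨u0, rfl, rfl⟩
    rw [h.inj (e3.trans e)] at ha
    exact absurd ha (by decide : ¬ inU v0 = true)

theorem memS {g : G} (hg : g ∈ Cen1 (j z0)) {a c : S0} (ha : inU a = true) (aZ : inZ a = false)
    (hc : inU c = true) (e : j c = g * j a * g⁻¹) : g ∈ j.range :=
  h.nU ⟨hg, h.norU ha (b := z0) rfl hc rfl ((by decide +kernel : ∀ a, inU a = true →
    inZ a = false → ∀ x, inU x = true → x = 1 ∨ x = a ∨ x = z0 ∨ x = a * z0) a ha aZ) e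
    (c1'.1 hg).symm⟩

theorem cu : Cen1 (j z0) ⊓ Cen1 (j u0) ≤ j.range := fun g hg =>
  h.memS hg.1 (a := u0) rfl rfl rfl (c1'.1 hg.2).symm

theorem ce {e : S0} (he : isE e = true) : Cen1 (j z0) ⊓ Cen1 (j e) ≤ j.range := fun g hg => by
  obtain ⟨a, ha, e1, -⟩ := h.act hg.1 (q := t0) rfl
  have e2 : j (a * e * a⁻¹ * e⁻¹) = g * j (t0 * e * t0⁻¹ * e⁻¹) * g⁻¹ := by
    simp only [map_mul, map_inv, e1]
    conv_lhs => rw [← c1'.1 hg.2]
    group
  obtain ⟨k1, k2, k3⟩ := (by decide +kernel : ∀ e, isE e = true → inU (t0 * e * t0⁻¹ * e⁻¹) = true ∧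
    inZ (t0 * e * t0⁻¹ * e⁻¹) = false ∧ ∀ a, inQ a = true →
    (a * e * a⁻¹ * e⁻¹) * (a * e * a⁻¹ * e⁻¹) = 1 → inU (a * e * a⁻¹ * e⁻¹) = true) e he
  refine h.memS hg.1 k1 k2 (k3 a ha (h.inj ?_)) e2
  rw [map_mul, e2, conj_mul, ← map_mul, (by decide +kernel : ∀ b, inU b = true → b * b = 1) _ k1]
  simp

theorem ct : Cen1 (j z0) ⊓ Cen1 (j t0) = j.range ⊓ Cen1 (j t0) := by
  have l1 : 12 ≤ Nat.card {x // Cj (Cen1 (j z0)) (j t0) x} := by
    rw [← (by decide +kernel : (Finset.univ.filter fun c => isT c = true).card = 12),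
      ← card_img h.inj (fun c => isT c = true) (A := fun g => ∃ c, isT c = true ∧ j c = g)
        fun _ => Iff.rfl]
    refine H9.card_subtype_le_of_imp ?_
    rintro _ ⟨c, hc, rfl⟩
    exact h.cjT hc
  have l3 := card_cj (Cen1 (j z0)) (j t0)
  refine (eq_of_le_of_card_ge (inf_le_inf_right _ h.SH) ?_).symm
  rw [h.card_cen, tt_t.2.2.2]
  rw [h.card] at l3
  nlinarith

theorem cit {x g : G} (hx : x ∈ Cen1 (j z0)) (o : orderOf x = 2) (xz : x ≠ j z0)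
    (hg : g ∈ Cen1 (j z0)) (gx : g ∈ Cen1 x) (ho : Odd (orderOf g)) : g = 1 := by
  have key : ∀ a, Cen1 (j z0) ⊓ Cen1 a ≤ j.range → Cj (Cen1 (j z0)) a x → g = 1 := by
    rintro a ha ⟨k, hk, rfl⟩
    have := H9.eq_one_of_odd_of_mem h.syl.isPGroup (ha (x := k⁻¹ * g * k)
      (mem_inf.2 ⟨mul_mem (mul_mem (inv_mem hk) hg) hk, by rwa [← conj_c1, mem_conjS] at gx⟩))
      (by rwa [H9.orderOf_conj'])
    simpa [mul_assoc, inv_mul_eq_iff_eq_mul] using this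
  rcases h.cls hx o with e | e | e | e
  · exact absurd e xz
  · exact key _ h.cu e
  · exact key _ (h.ct.le.trans inf_le_left) e
  · exact key _ (h.ce rfl) e

theorem card_e : Nat.card {x // Cj (Cen1 (j z0)) (j e0) x} = 24 := by
  have l3 := card_cj (Cen1 (j z0)) (j e0)
  rw [h.card, le_antisymm (le_inf (h.ce rfl) inf_le_right) (inf_le_inf_right _ h.SH), h.card_cen,
    (by decide +kernel : (Finset.univ.filter fun c => c * e0 = e0 * c).card = 8)] at l3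
  omega

theorem cj_u {x : G} : Cj (Cen1 (j z0)) (j u0) x ↔
    ∃ c, (inV c = true ∧ inZ c = false) ∧ j c = x := by
  constructor
  · rintro ⟨g, hg, rfl⟩
    obtain ⟨a, -, e, h1, -⟩ := h.act hg (q := u0) rfl
    exact ⟨a, ⟨h1 rfl, h.zfix hg e rfl⟩, e⟩
  · rintro ⟨c, hc, rfl⟩
    obtain ⟨g, e | e⟩ := (by decide +kernel : ∀ c, inV c = true → inZ c = false →
      ∃ g, g * u0 * g⁻¹ = c ∨ g * v0 * g⁻¹ = c) c hc.1 hc.2
    · exact h.cjH' e
    · exact h.uv.trans (h.cjH' e)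

theorem cj_t {x : G} : Cj (Cen1 (j z0)) (j t0) x ↔ ∃ c, isT c = true ∧ j c = x := by
  constructor
  · rintro ⟨g, hg, rfl⟩
    obtain ⟨a, -, e, -, h1⟩ := h.act hg (q := t0) rfl
    exact ⟨a, h1 rfl, e⟩
  · rintro ⟨c, hc, rfl⟩
    exact h.cjT hc

theorem e_nQ {x : G} (hx : Cj (Cen1 (j z0)) (j e0) x) : x ∉ Q0.map j := fun hq => by
  obtain ⟨g, hg, e⟩ := hx.symm
  obtain ⟨a, ha, e'⟩ := cmem (h.nQ hg) hq
  rw [h.inj (e'.trans e)] at ha
  exact absurd ha (by decide : ¬ inQ e0 = true)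

end HS

theorem CZ.hs {j : S0 →* G} (h : CZ j) (hO : pPrimeCore 2 G = ⊥) : HS j := by
  obtain ⟨h1, h2, h3⟩ := h.main hO
  have e : Cen1 (j z0) = ⊤ := eq_top_iff.2 fun g _ => c1.2 (h.cen g)
  exact ⟨⟨h.toSJ, e ▸ cj_top.2 h3, e ▸ cj_top.2 h.ts, e ▸ cj_top.2 h.tr,
    fun x y hx hy c => h.vt x y hx hy c.isConj⟩, le_top.trans h1, by rw [e, card_top, h2]⟩

/-- the embedding in a section -/
def jq {j : S0 →* G} {L : Subgroup G} (hL : j.range ≤ L) {X : Type*} [Group X] (f : L →* X) :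
    S0 →* X := f.comp (j.codRestrict L fun x => hL ⟨x, rfl⟩)

section Quot

variable {j : S0 →* G} {L N : Subgroup G} (hL : j.range ≤ L) {X : Type*} [Group X] [Finite X]
  {f : L →* X}

theorem jq_apply (x : S0) : jq hL f x = f ⟨j x, hL ⟨x, rfl⟩⟩ := rfl

theorem jq_map (A : Subgroup S0) : A.map (jq hL f) = im f (A.map j) := by
  ext y
  exact ⟨by rintro ⟨x, hx, rfl⟩; exact ⟨_, ⟨x, hx, rfl⟩, rfl⟩,
    by rintro ⟨⟨_, _⟩, ⟨x, hx, rfl⟩, rfl⟩; exact ⟨x, hx, rfl⟩⟩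

theorem SJ.quot (h : SJ j) (hf : Function.Surjective f) (hk : f.ker = N.subgroupOf L)
    (hN : Odd (Nat.card N)) : SJ (jq hL f) := by
  refine ⟨(injective_iff_map_eq_one _).2 fun x hx => h.inj ?_, ?_⟩
  · rw [map_one]
    exact H9.eq_one_of_odd_of_mem h.syl.isPGroup ⟨x, rfl⟩
      (odd_ord hN ((map_eq_one_iff_of_ker hk).1 hx))
  · rw [MonoidHom.range_eq_map, jq_map, ← MonoidHom.range_eq_map, ← im_self hf]
    exact (h.syl.of_le hL le_top).im le_rfl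

theorem Cj.im {K : Subgroup G} {a b : G} (h : Cj K a b) (hK : K ≤ L) (ha : a ∈ L) (hb : b ∈ L) :
    Cj (im f K) (f ⟨a, ha⟩) (f ⟨b, hb⟩) := by
  obtain ⟨g, hg, rfl⟩ := h
  exact ⟨f ⟨g, hK hg⟩, mem_im_of_mem _ hg, by rw [← map_inv, ← map_mul, ← map_mul]; rfl⟩

end Quot

end MT
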