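import Cfsg.Agent.MT.Hs

/-! The local structure of the two involution centralizers. -/

set_option autoImplicit false
set_option linter.unusedVariables false
set_option linter.unusedSectionVars false

namespace MT

open Cfsg Subgroup FT H4 H5 GW

universe u

variable {G : Type u} [Group G] [Finite G]

theorem cj_kr {L : Subgroup G} {φ : L →* ℤˣ} {a x y : G} (ha : a ∈ L) (h1 : a ∉ kr φ)
    (h2 : a ∈ Cen1 x) (h : Cj L x y) : Cj (kr φ) x y := by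
  obtain ⟨g, hg, rfl⟩ := h
  by_cases e : g ∈ kr φ
  · exact cj_mk e x
  · exact ⟨g * a, mul_mem_kr hg ha e h1, by
      rw [show g * a * x * (g * a)⁻¹ = g * (a * x * a⁻¹) * g⁻¹ by group, c1'.1 h2]⟩

theorem le_kr_sup {L : Subgroup G} {φ : L →* ℤˣ} {a : G} (ha : a ∈ L) (h1 : a ∉ kr φ)
    {M : Subgroup G} (h2 : kr φ ≤ M) (h3 : a ∈ M) : L ≤ M := fun g hg => by
  by_cases e : g ∈ kr φ
  · exact h2 e
  · exact (mul_mem_cancel_right h3).1 (h2 (mul_mem_kr hg ha e h1))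

/-- the subgroups of index 2 and 4 of `C(t)` -/
structure KK (j : S0 →* G) (K0 K1 : Subgroup G) : Prop where
  le0 : K0 ≤ K1
  le1 : K1 ≤ Cen1 (j t0)
  syl : IsSylowOf 2 (U0.map j) K0
  card : Nat.card (Cen1 (j t0)) = 4 * Nat.card K0
  t1 : j t0 ∈ K1
  t0' : j t0 ∉ K0
  mul1 : ∀ a ∈ Cen1 (j t0), ∀ b ∈ Cen1 (j t0), a ∉ K1 → b ∉ K1 → a * b ∈ K1
  mul0 : ∀ a ∈ K1, ∀ b ∈ K1, a ∉ K0 → b ∉ K0 → a * b ∈ K0
  zu : Cj K0 (j z0) (j u0)
  zuz : Cj K0 (j z0) (j (z0 * u0))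
  mem : ∀ x ∈ Cen1 (j t0), IsConj (j z0) x → x ∈ K0
  sup : ∀ M : Subgroup G, K0 ≤ M → j.range ≤ M → Cen1 (j t0) ≤ M

theorem card_U0 : (Finset.univ.filter fun c => inU c = true).card = 4 := by decide +kernel
theorem card_E0 : (Finset.univ.filter fun c => inE c = true).card = 8 := by decide +kernel
theorem card_V0 : (Finset.univ.filter fun c => inV c = true).card = 8 := by decide +kernel
theorem U_cases : ∀ x, inU x = true → x = 1 ∨ x = z0 ∨ x = u0 ∨ x = z0 * u0 := by decide +kernel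

theorem SJ.card_U {j : S0 →* G} (h : SJ j) : Nat.card (U0.map j) = 4 :=
  (h.card_map _ _).trans card_U0

theorem SJ.f4 {j : S0 →* G} (h : SJ j) : F4 (j z0) (j u0) :=
  ⟨h.oz, h.ou, by rw [← map_mul, ← map_mul, zc], fun e => absurd (h.inj e) (by decide)⟩

namespace Pat

variable {j : S0 →* G} (h : Pat j)
include h

theorem pZ {x : S0} (hx : inV x = true) (x1 : x ≠ 1) : IsConj (j z0) (j x) := by
  obtain ⟨g, e | e | e⟩ := (by decide +kernel : ∀ c, inV c = true → c ≠ 1 → ∃ g,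
    g * z0 * g⁻¹ = c ∨ g * u0 * g⁻¹ = c ∨ g * v0 * g⁻¹ = c) x hx x1 <;> have := (cjS j e).isConj
  · exact this
  · exact h.zu.trans this
  · exact h.zv.trans this

theorem pT {x : S0} (hx : isT x = true) : IsConj (j t0) (j x) := by
  obtain ⟨g, e | e | e⟩ := (by decide +kernel : ∀ c, isT c = true → ∃ g, g * t0 * g⁻¹ = c ∨
    g * s0 * g⁻¹ = c ∨ g * r0 * g⁻¹ = c) x hx <;> have := (cjS j e).isConj
  · exact this
  · exact h.ts.trans this
  · exact h.tr.trans this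

theorem vt (x y : S0) (hx : inV x = true) (hy : isT y = true) : ¬ IsConj (j x) (j y) := fun e => by
  by_cases x1 : x = 1
  · rw [x1, map_one, isConj_one_right, ← map_one j] at e
    rw [h.inj e] at hy
    exact absurd hy (by decide)
  · exact h.ne (((h.pZ hx x1).trans e).trans (h.pT hy).symm)

theorem zV {x : S0} (hx : inQ x = true) (e : IsConj (j z0) (j x)) : inV x = true :=
  (vt_cases x hx (h.sq_of h.oz e).1).resolve_right fun h1 => h.vt z0 x rfl h1 e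

theorem cls2 {x : G} (o : orderOf x = 2) : IsConj x (j z0) ∨ IsConj x (j t0) := by
  obtain ⟨s, c⟩ := h.conj_in (ii o)
  obtain ⟨s1, s2⟩ := h.sq_of o c
  rcases (by decide +kernel : ∀ s : S0, s * s = 1 → inV s = true ∨ isT s = true ∨
    ∃ g, g * e0 * g⁻¹ = s) s s1 with e | e | ⟨g, e⟩
  · exact Or.inl (c.trans (h.pZ e s2).symm)
  · exact Or.inr (c.trans (h.pT e).symm)
  · exact h.ec.imp (fun e' => c.trans (e'.trans (cjS j e).isConj).symm)
      fun e' => c.trans (e'.trans (cjS j e).isConj).symm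

theorem tsH : Cj (Cen1 (j z0)) (j t0) (j s0) := by
  obtain ⟨g, hg, e, -⟩ := h.cjH h.zu tt_t tt_s (by decide) (h.vt z0 s0 rfl rfl) h.ts
  exact ⟨g, hg, e⟩

theorem trH : Cj (Cen1 (j z0)) (j t0) (j r0) := by
  obtain ⟨g, hg, e, -⟩ := h.cjH h.zu tt_t tt_r (by decide) (h.vt z0 r0 rfl rfl) h.tr
  exact ⟨g, hg, e⟩

/-- the structure of `C(z)` modulo its core -/
theorem loc : HF j ∧ Nat.card (Cen1 (j z0)) = 192 * Nat.card (Uo (j z0)) ∧
    Cen1 (j z0) ≤ Nor (Q0.map j ⊔ Uo (j z0)) ∧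
    (∀ s ∈ Q0.map j, ¬ Cj (Cen1 (j z0)) (j e0) s) ∧
    ∀ x ∈ Cen1 (j z0), orderOf x = 2 → x ≠ j z0 → ∀ g ∈ Cen1 (j z0), g ∈ Cen1 x →
      Odd (orderOf g) → g ∈ Uo (j z0) := by
  obtain ⟨X, _, _, f, hf, hk⟩ := exists_hom_ker_eq (nUo (j z0))
  have hN := odd_Oo (Cen1 (j z0))
  have c : CZ (jq h.SH f) := ⟨h.toSJ.quot h.SH hf hk hN, fun y => by
    obtain ⟨g, rfl⟩ := hf y
    rw [jq_apply, ← map_mul, ← map_mul]
    exact congrArg f (Subtype.ext (c1.1 g.2)), (h.tsH.im le_rfl _ _).isConj,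
    (h.trH.im le_rfl _ _).isConj, fun x y hx hy e => by
      by_cases x1 : x = 1
      · rw [x1, map_one, isConj_one_right, ← map_one (jq h.SH f)] at e
        rw [(h.toSJ.quot h.SH hf hk hN).inj e] at hy
        exact absurd hy (by decide)
      · exact h.vt x y hx hy (lift_cj hf hk hN ((H9.orderOf_of_isConj (h.pZ hx x1)).trans h.oz)
          ((H9.orderOf_of_isConj (h.pT hy)).trans h.ot) e).isConj⟩
  have hO : pPrimeCore 2 X = ⊥ := by
    rw [← pPrimeCoreIn_top, ← im_self hf]; exact pPrimeCoreIn_im_eq_bot hf hk le_rfl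
  have s := c.hs hO
  have e : Cen1 (jq h.SH f z0) = ⊤ := eq_top_iff.2 fun g _ => c1.2 (c.cen g)
  refine ⟨⟨h.toSJ, lift_cj hf hk hN h.ou (h.ord (by decide) (by decide)) s.uv.isConj, h.tsH, h.trH,
    fun x y hx hy e => h.vt x y hx hy e.isConj⟩, ?_, ?_, fun q hq e' => ?_,
    fun x hx o xz g hg gx ho => ?_⟩
  · rw [card_eq_card_im_mul hk le_rfl, im_self hf, ← e, s.card, inf_eq_right.2 (Uo_le _)]
  · rw [← pre_im hk (Uo_le _) ((mapS j Q0).trans h.SH), ← jq_map h.SH]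
    exact le_normalizer_pre le_rfl (le_top.trans (e.ge.trans s.nQ))
  · exact c.ne_Q (by rw [jq_map]; exact mem_im_of_mem (h.SH (mapS j Q0 hq)) hq)
      (e'.im le_rfl _ _).isConj
  · have n1 : ∀ y : Cen1 (j z0), orderOf (y : G) = 2 → f y ≠ 1 := fun y oy e =>
      not_mem_odd hN oy ((map_eq_one_iff_of_ker hk).1 e)
    refine (map_eq_one_iff_of_ker hk (x := ⟨g, hg⟩)).1 (s.cit (x := f ⟨x, hx⟩) (e.ge (mem_top _))
      (o2 (by rw [← map_mul, show (⟨x, hx⟩ : Cen1 (j z0)) * ⟨x, hx⟩ = 1 from Subtype.ext (ii o),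
        map_one]) (n1 _ o)) (fun e' => ?_) (e.ge (mem_top _)) (c1.2 ?_) ?_)
    · refine n1 (⟨_, h.SH ⟨z0, rfl⟩⟩ * ⟨x, hx⟩)
        (F4.hta ⟨h.oz, o, (c1.1 hx).symm, xz⟩) ?_
      rw [map_mul, e']
      exact ii s.oz
    · rw [← map_mul, ← map_mul]
      exact congrArg f (Subtype.ext (c1.1 gx))
    · exact ho.of_dvd_nat ((orderOf_map_dvd f _).trans (by rw [← orderOf_coe]))

theorem bal {a b g : G} (hb : IsConj (j z0) b) (oa : orderOf a = 2) (ab : a ≠ b)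
    (c : a ∈ Cen1 b) (g1 : g ∈ Cen1 a) (g2 : g ∈ Cen1 b) (ho : Odd (orderOf g)) : g ∈ Uo b := by
  obtain ⟨k, rfl⟩ := isConj_iff.1 hb
  rw [← conj_c1, mem_conjS] at c g2
  rw [← conj_Uo, mem_conjS]
  refine h.loc.2.2.2.2 _ c (by rwa [H9.orderOf_conj']) (fun e => ab (by rw [← e]; group)) _ g2 ?_
    (by rwa [H9.orderOf_conj'])
  rw [show k⁻¹ * a * k = k⁻¹ * a * k⁻¹⁻¹ by rw [inv_inv], ← conj_c1, mem_conjS]
  exact mem_of_eq g1 (by group)

theorem nV {g : G} (hg : g ∈ Cen1 (j z0)) (hn : g ∈ Nor (Q0.map j)) : g ∈ Nor (V0.map j) :=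
  mnor (by
    rintro _ ⟨x, hx, rfl⟩
    obtain ⟨a, ha, e⟩ := cmem hn ⟨x, (by decide +kernel : ∀ b, inV b = true → inQ b = true) x hx,
      rfl⟩
    by_cases x1 : x = 1
    · simp [x1]
    · exact ⟨a, h.zV ha ((h.pZ hx x1).trans (e ▸ isConj_mk g _)), e⟩)

theorem le_of {M : Subgroup G} (h1 : Uo (j z0) ≤ M) (h2 : Nor (V0.map j) ≤ M) :
    Cen1 (j z0) ≤ M := fun g hg => by
  have p := h.syl.isPGroup.to_le (mapS j Q0)
  have nq : Q0.map j ≤ Nor (Uo (j z0)) := ((mapS j Q0).trans h.SH).trans (nUo _)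
  have s : IsSylowOf 2 (Q0.map j) (Q0.map j ⊔ Uo (j z0)) := ⟨le_sup_left, p, fun e => by
    have e1 := card_mul_relIndex (le_sup_left : Q0.map j ≤ Q0.map j ⊔ Uo (j z0))
    rw [sup_comm, card_sup_of_disjoint nq (by rw [inf_comm]; exact W.two_odd p (odd_Oo _)),
      sup_comm, mul_comm] at e1
    rw [Nat.eq_of_mul_eq_mul_right Nat.card_pos e1] at e
    exact Nat.not_even_iff_odd.2 (odd_Oo _) (even_iff_two_dvd.2 e)⟩
  obtain ⟨n, hn, e⟩ := s.frattini (h.loc.2.2.1 hg)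
  have hq : Q0.map j ≤ M := fun q hq => h2 (h.nV (h.SH (mapS j Q0 hq)) (le_normalizer hq))
  exact (mul_mem_cancel_left (inv_mem (sup_le hq h1 hn))).1 (h2 (h.nV (mul_mem (inv_mem
    (sup_le ((mapS j Q0).trans h.SH) (Uo_le _) hn)) hg) e))

theorem hs (h0 : Uo (j z0) = ⊥) : HS j :=
  ⟨h.loc.1, by simpa [h0] using h.loc.2.2.1, by simpa [h0] using h.loc.2.1⟩

theorem sylK : IsSylowOf 2 (j.range ⊓ Cen1 (j t0)) (Cen1 (j t0)) := by
  have := h.sylT h.zu tt_t (by decide) h.ne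
  rwa [top_inf_eq] at this

theorem zU {x : G} (hx : x ∈ j.range ⊓ Cen1 (j t0)) (e : IsConj (j z0) x) : x ∈ U0.map j := by
  obtain ⟨⟨c, rfl⟩, hc⟩ := hx
  obtain ⟨k1, k2⟩ := (by decide +kernel : ∀ c, c * t0 = t0 * c → inQ c = true ∧
    (inV c = true → inU c = true)) c (h.comm.1 hc)
  exact ⟨c, k2 (h.zV k1 e), rfl⟩

theorem tK {c : S0} (hc : c * t0 = t0 * c) : j c ∈ Cen1 (j t0) := h.comm.2 hc

theorem caseII (hn : ¬ Cj (Cen1 (j t0)) (j z0) (j u0)) :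
    Cen1 (j t0) ≤ (Cen1 (j t0) ⊓ Cen1 (j z0)) ⊔ Uo (j t0) :=
  zstar_in h.oz (h.tK (by decide)) (h.sylK.of_le (le_inf inf_le_right (inf_le_left.trans h.SH))
    inf_le_left) fun x hx e => by
    obtain ⟨c, hc, rfl⟩ := h.zU hx e.isConj
    rcases U_cases c hc with rfl | rfl | rfl | rfl
    · exact absurd rfl (h.sq_of h.oz e.isConj).2
    · rfl
    · exact absurd e hn
    · exact absurd (e.trans ⟨j s0, h.tK (by decide), by
        rw [← map_mul, ← map_inv, ← map_mul]; exact congrArg j (by decide)⟩) hn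

theorem caseI (hc : Cj (Cen1 (j t0)) (j z0) (j u0)) : ∃ K0 K1, KK j K0 K1 := by
  have cT : Nat.card ↥(j.range ⊓ Cen1 (j t0)) = 16 := (h.card_cen _).trans tt_t.2.2.2
  have cE : Nat.card (E0.map j) = 8 := (h.card_map _ _).trans card_E0
  have ET : E0.map j ≤ j.range ⊓ Cen1 (j t0) := by
    rintro _ ⟨c, hc, rfl⟩
    exact ⟨⟨c, rfl⟩, h.tK ((by decide +kernel : ∀ c, inE c = true → c * t0 = t0 * c) c hc)⟩
  obtain ⟨φ, hφ⟩ := tt' h.sylK ET (by rw [cT, cE])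
  have k : ∀ a, isT a = true → isT (t0 * a) = true → a * t0 = t0 * a → j a ∉ kr φ :=
    fun a h1 h2 h3 => hφ _ (h.tK h3) (ii ((H9.orderOf_of_isConj (h.pT h1)).trans h.ot)) (by
      rintro _ ⟨c, hc, rfl⟩ ⟨g, hg, e⟩
      have e2 : IsConj (j (t0 * a)) (j (t0 * c)) := isConj_iff.2 ⟨g, by
        rw [map_mul, map_mul, ← e, ← conj_mul, c1'.1 hg]⟩
      rcases (by decide +kernel : ∀ c, inE c = true → inV c = true ∨ inV (t0 * c) = true) c hc
        with e3 | e3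
      · exact h.vt _ _ e3 h1 (isConj_iff.2 ⟨g, e⟩).symm
      · exact h.vt _ _ e3 h2 e2.symm)
  have ks := k s0 rfl rfl (by decide)
  have kt : j t0 ∈ kr φ := by
    have := mul_mem_kr (h.tK (by decide)) (h.tK (by decide)) (k r0 rfl rfl (by decide)) ks
    rwa [← map_mul] at this
  have hc' : Cj (Cen1 (j t0)) (j z0) (j (z0 * u0)) := hc.trans ⟨j s0, h.tK (by decide), by
    rw [← map_mul, ← map_inv, ← map_mul]; exact congrArg j (by decide)⟩
  have kz : j z0 ∈ kr φ := kr_three φ (h.tK (by decide)) hc (by rwa [← map_mul])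
  have U1 : ∀ {L : Subgroup G}, j z0 ∈ L → j u0 ∈ L → U0.map j ≤ L := fun h1 h2 => by
    rintro _ ⟨c, hc, rfl⟩
    rcases U_cases c hc with rfl | rfl | rfl | rfl
    · simp
    · exact h1
    · exact h2
    · exact map_mul j _ _ ▸ mul_mem h1 h2
  have E1 : E0.map j ≤ kr φ := by
    rintro _ ⟨c, hc', rfl⟩
    rcases (by decide +kernel : ∀ c, inE c = true → inU c = true ∨ inU (c * t0) = true) c hc'
      with e | e
    · exact U1 kz (kr_cj hc kz) ⟨c, e, rfl⟩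
    · exact (mul_mem_cancel_right kt).1 (map_mul j _ _ ▸ U1 kz (kr_cj hc kz) ⟨_, e, rfl⟩)
  have s1 := syl_kr h.sylK ET E1 (by rw [cT, cE]) ⟨⟨s0, rfl⟩, h.tK (by decide)⟩ ks
  have UE : U0.map j ≤ E0.map j :=
    map_mono (by decide +kernel : ∀ c, inU c = true → inE c = true)
  obtain ⟨ψ, hψ⟩ := tt' s1 UE (by rw [cE, h.card_U])
  have kt' : j t0 ∉ kr ψ := hψ _ kt (ii h.ot) (by
    rintro _ ⟨c, hc, rfl⟩ e
    exact h.vt c t0 ((by decide +kernel : ∀ c, inU c = true → inV c = true) c hc) rfl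
      e.isConj.symm)
  have d1 := cj_kr (h.tK (by decide)) ks (h.SH ⟨s0, rfl⟩) hc
  have d2 := cj_kr (h.tK (by decide)) ks (h.SH ⟨s0, rfl⟩) hc'
  have kz' : j z0 ∈ kr ψ := kr_three ψ kz d1 (by rwa [← map_mul])
  refine ⟨kr ψ, kr φ, kr_le ψ, kr_le φ, syl_kr s1 UE (U1 kz' (kr_cj d1 kz')) (by rw [cE, h.card_U])
    ⟨t0, rfl, rfl⟩ kt', by rw [card_kr (h.tK (by decide)) ks, card_kr kt kt']; ring, kt, kt',
    fun a ha b hb => mul_mem_kr ha hb, fun a ha b hb => mul_mem_kr ha hb,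
    cj_kr kt kt' (h.SH ⟨t0, rfl⟩) d1, cj_kr kt kt' (h.SH ⟨t0, rfl⟩) d2, fun x hx e => ?_,
    fun M h1 h2 => le_kr_sup (h.tK (by decide)) ks (le_kr_sup kt kt' h1 (h2 ⟨t0, rfl⟩))
      (h2 ⟨s0, rfl⟩)⟩
  have o := ii ((H9.orderOf_of_isConj e).trans h.oz)
  obtain ⟨g, hg, e1⟩ := conj_in2 h.sylK hx o
  have x1 : x ∈ kr φ := kr_cj (cj_mk hg x).symm
    (E1 (UE (h.zU e1 (e.trans (isConj_mk g x)))))
  obtain ⟨g, hg, e1⟩ := conj_in2 s1 x1 o
  exact kr_cj (cj_mk hg x).symm (U1 kz' (kr_cj d1 kz') (h.zU (ET e1) (e.trans (isConj_mk g x))))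

/-- an element of `N(W)` moving `u` to `z` -/
theorem exN : ∃ g : G, g * j u0 * g⁻¹ = j z0 ∧ g ∈ Nor (U0.map j) ∧
    ∀ c, inW c = true → ∃ c', inW c' = true ∧ j c' = g * j c * g⁻¹ := by
  obtain ⟨g, e1, e2⟩ := h.cod.ext zc h.zu.symm
  obtain ⟨a, ea⟩ := e2 y0 (by decide)
  have e3 : j (a * a) = g * j z0 * g⁻¹ := by rw [map_mul, ea, conj_mul, ← map_mul]; rfl
  have k1 := h.sq_of h.oz (e3 ▸ isConj_mk g _ : IsConj (j z0) (j (a * a)))
  have k2 : a * a ≠ z0 := fun e => by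
    rw [e] at e3
    exact absurd (h.inj (by simpa using e1.trans e3)) (by decide : u0 ≠ z0)
  obtain ⟨k3, k4⟩ := (by decide +kernel : ∀ a : S0, a * a * (a * a) = 1 → a * a ≠ 1 → a * a ≠ z0 →
    inU (a * a) = true ∧ ∀ c, c * (a * a) = a * a * c → inW c = true) a k1.1 k1.2 k2
  refine ⟨g, e1, h.norU (a := z0) (b := u0) rfl rfl k3 rfl U_cases e3 e1.symm, fun c hc => ?_⟩
  obtain ⟨c', e⟩ := e2 c ((by decide +kernel : ∀ c, inW c = true → c * u0 = u0 * c) c hc)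
  exact ⟨c', k4 c' ((h.comm_iff e e3).2 (zc c)), e⟩

end Pat

end MT
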