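import Cfsg.Agent.MT.Sg
import Cfsg.Agent.H2.M12d

/-! The Sylow 2-subgroup of `M₁₂`, and the characterizations of `M₁₂`. -/

set_option autoImplicit false
set_option linter.unusedVariables false
set_option linter.unusedSectionVars false

namespace MT

open Cfsg Subgroup FT H4 H5 GW

universe u

section Lift

variable {G : Type*} [Group G]

/-- the defining relations of `S0` -/
structure Rel (x y i s : G) : Prop where
  x4 : x ^ 4 = 1
  c : x * y = y * x
  i2 : i * i = 1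
  s2 : s * s = 1
  is : i * s = s * i
  ix : x * i * x = i
  sx : s * x = y * s

theorem pw_add {x : G} (h : x ^ 4 = 1) (a b : Fin 4) : x ^ (a + b).val = x ^ a.val * x ^ b.val := by
  rw [Fin.val_add, ← pow_eq_pow_mod _ h, pow_add]

theorem pw_neg {x : G} (h : x ^ 4 = 1) (a : Fin 4) : x ^ (-a).val = x⁻¹ ^ a.val := by
  rw [inv_pow, eq_inv_iff_mul_eq_one, ← pw_add h, neg_add_cancel]; simp

theorem shuffle {A B A' B' I S C D C' D' R : G} (h1 : S * (C * D) = C' * D' * S)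
    (h2 : I * (C' * D') = A' * B' * I) (h3 : A' * B = B * A') :
    A * A' * (B * B') * (I * (S * R)) = A * B * (I * S) * (C * D * R) :=
  calc _ = A * (A' * B) * B' * I * (S * R) := by group
    _ = A * B * (A' * B' * I) * (S * R) := by rw [h3]; group
    _ = A * B * I * (C' * D' * S) * R := by rw [← h2]; group
    _ = _ := by rw [← h1]; group

namespace Rel

variable {x y i s : G} (h : Rel x y i s)
include h

theorem ey : y = s * x * s⁻¹ := by rw [h.sx]; group
theorem si : s⁻¹ = s := inv_eq_of_mul_eq_one_right h.s2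
theorem ex : x = s * y * s⁻¹ := by
  rw [h.ey, h.si, ← mul_assoc, ← mul_assoc, h.s2, one_mul, mul_assoc, h.s2, mul_one]
theorem y4 : y ^ 4 = 1 := by rw [h.ey, conj_pow, h.x4]; simp
theorem ix' : i * x * i⁻¹ = x⁻¹ := by
  rw [eq_inv_iff_mul_eq_one, inv_eq_of_mul_eq_one_right h.i2, mul_assoc, mul_assoc, ← mul_assoc x,
    h.ix, h.i2]
theorem iy' : i * y * i⁻¹ = y⁻¹ := by
  calc i * y * i⁻¹ = (i * s) * x * (i * s)⁻¹ := by rw [h.ey]; group
    _ = s * (i * x * i⁻¹) * s⁻¹ := by rw [h.is]; group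
    _ = _ := by rw [h.ix', h.ey]; group

/-- the homomorphism given by the relations -/
def hom : S0 →* G := MonoidHom.mk' (fun c => x ^ c.a.val * y ^ c.b.val *
    ((bif c.i then i else 1) * (bif c.s then s else 1))) (by
  rintro ⟨a, b, k, l⟩ ⟨c, d, m, n⟩
  have hS : ∀ c d : Fin 4, (bif l then s else 1) * (x ^ c.val * y ^ d.val) =
      x ^ (bif l then d else c).val * y ^ (bif l then c else d).val * (bif l then s else 1) := by
    intro c d
    cases l
    · simp
    · simp only [cond_true]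
      rw [((show Commute x y from h.c).pow_pow _ _).eq]
      nth_rewrite 2 [h.ey, h.ex]
      rw [conj_pow, conj_pow]; group
  have hI : ∀ c d : Fin 4, (bif k then i else 1) * (x ^ c.val * y ^ d.val) =
      x ^ (S0.sg k c).val * y ^ (S0.sg k d).val * (bif k then i else 1) := by
    intro c d
    cases k
    · simp [S0.sg]
    · simp only [cond_true, S0.sg]
      rw [pw_neg h.x4, pw_neg h.y4, ← h.ix', ← h.iy', conj_pow, conj_pow]; group
  have h3 : (bif xor k m then i else 1) * (bif xor l n then s else 1) = (bif k then i else 1) *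
      ((bif l then s else 1) * ((bif m then i else 1) * (bif n then s else 1))) := by
    have := h.is
    have e : ∀ t, s * (i * t) = i * (s * t) := fun t => by rw [← mul_assoc, ← h.is, mul_assoc]
    have e' : ∀ t, i * (i * t) = t := fun t => by rw [← mul_assoc, h.i2, one_mul]
    cases k <;> cases l <;> cases m <;> cases n <;> simp [h.i2, h.s2, ← h.is, e, e']
  simp only [S0.mul_def]
  rw [pw_add h.x4, pw_add h.y4, h3]
  exact shuffle (hS c d) (hI _ _) ((show Commute x y from h.c).pow_pow _ _).eq)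

theorem hom_t : h.hom t0 = i := by simp [hom, t0]
theorem hom_u : h.hom u0 = x ^ 2 := by simp [hom, u0]
theorem hom_z : h.hom z0 = x ^ 2 * y ^ 2 := by simp [hom, z0]

end Rel

theorem inj_of_z {j : S0 →* G} (h : j z0 ≠ 1) : Function.Injective j :=
  (injective_iff_map_eq_one _).2 fun c hc => by
    by_contra c1
    obtain ⟨g, k, e | e | e⟩ := (by decide +kernel : ∀ c : S0, c ≠ 1 → ∃ g k, z0 = c ∨
      z0 = g * c * g⁻¹ * c⁻¹ ∨ z0 = k * (g * c * g⁻¹ * c⁻¹) * k⁻¹ * (g * c * g⁻¹ * c⁻¹)⁻¹) c c1 <;>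
    exact h (by simp [e, hc])

end Lift

theorem M12_eq : Spor.M12 = H2.stS (H2.fs H2.dodD) := by
  have : Spor.squareDodecad = H2.fs H2.dodD := by decide +kernel
  rw [Spor.M12, this]

theorem card_M12' : Nat.card Spor.M12 = 95040 := by rw [M12_eq]; exact H2.card_M12 H2.dodD_mem

theorem isoM12 {G : Type*} [Group G] [Finite G] [IsSimpleGroup G] (h : Nat.card G = 95040) :
    Nonempty (G ≃* Spor.M12) := by rw [M12_eq]; exact H2.M12.iso h

theorem SJ.of_card {G : Type*} [Group G] [Finite G] {j : S0 →* G} (h : Function.Injective j)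
    {L : Subgroup G} (hL : j.range ≤ L) {m : ℕ} (hc : Nat.card L = 64 * m) (hm : ¬ 2 ∣ m) :
    IsSylowOf 2 j.range L := by
  have h1 : Nat.card j.range = 64 := by
    rw [← S0.card_S0, ← Nat.card_eq_fintype_card]
    exact (Nat.card_congr (MonoidHom.ofInjective h).toEquiv).symm
  refine ⟨hL, IsPGroup.of_card (n := 6) h1, fun e => hm ?_⟩
  have := card_mul_relIndex hL
  rw [h1, hc] at this
  rwa [← Nat.eq_of_mul_eq_mul_left (by norm_num) this]

theorem exists_M12 : ∃ j : S0 →* Spor.M12, SJ j ∧ ¬ IsConj (j u0) (j t0) := by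
  have k : ∀ c, H2.inM24 c = true → H2.imgC c H2.dodD = H2.dodD →
      ∃ g : Spor.M12, H2.Rep g.1 c := fun c h1 h2 => by
    obtain ⟨g, hg, e⟩ := (H2.repIn_M24 h1).stab_fs h2
    exact ⟨⟨g, M12_eq ▸ hg⟩, e⟩
  obtain ⟨x, hx⟩ := k 610566093530509343392363481832752646 (by decide +kernel) (by decide +kernel)
  obtain ⟨y, hy⟩ := k 812166787431111576398549084599748108 (by decide +kernel) (by decide +kernel)
  obtain ⟨i, hi⟩ := k 604075621139160352362643989873230924 (by decide +kernel) (by decide +kernel)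
  obtain ⟨s, hs⟩ := k 817399766925735839130272778444489289 (by decide +kernel) (by decide +kernel)
  have q : ∀ {a b : Spor.M12} {c d : ℕ}, H2.Rep a.1 c → H2.Rep b.1 d → c = d → a = b :=
    fun h1 h2 e => Subtype.ext (h1.unique (e ▸ h2))
  have r : Rel x y i s := ⟨q (hx.pow 4) H2.rep_one (by decide +kernel),
    q (hx.mul hy) (hy.mul hx) (by decide +kernel), q (hi.mul hi) H2.rep_one (by decide +kernel),
    q (hs.mul hs) H2.rep_one (by decide +kernel), q (hi.mul hs) (hs.mul hi) (by decide +kernel),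
    q ((hx.mul hi).mul hx) hi (by decide +kernel), q (hs.mul hx) (hy.mul hs) (by decide +kernel)⟩
  have inj := inj_of_z (j := r.hom) fun e => by
    have h1 : H2.Rep (x ^ 2 * y ^ 2).1 _ := (hx.pow 2).mul (hy.pow 2)
    rw [← r.hom_z, e] at h1
    have h2 : ∀ i < 24, H2.ap _ i = H2.ap H2.oneC i := fun i hi =>
      (h1 i hi).symm.trans (H2.rep_one i hi)
    exact absurd h2 (by decide +kernel)
  refine ⟨r.hom, ⟨inj, SJ.of_card inj le_top (m := 1485) (by rw [card_top, card_M12']) (by decide)⟩,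
    fun e => ?_⟩
  obtain ⟨g, e⟩ := isConj_iff.1 e
  rw [r.hom_t, r.hom_u, mul_inv_eq_iff_eq_mul] at e
  have h1 : (x ^ 2).1 (H2.pt 0) = H2.pt 0 := (hx.pow 2).apply_pt (by decide)
  have h2 : i.1 (g.1 (H2.pt 0)) = g.1 (H2.pt 0) := by
    rw [← Equiv.Perm.mul_apply, ← coe_mul, ← e, coe_mul, Equiv.Perm.mul_apply, h1]
  have h3 := hi.idx_apply (g.1 (H2.pt 0))
  rw [h2] at h3
  exact (by decide +kernel : ∀ n < 24, n ≠ H2.ap 604075621139160352362643989873230924 n) _
    (H2.idx_lt _) h3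

variable {G : Type u} [Group G] [Finite G]

theorem syl_iso {H : Type*} [Group H] [Finite H] {j : S0 →* H} {L : Subgroup H}
    (hi : Function.Injective j) (h : IsSylowOf 2 j.range L) {P : Subgroup H}
    (hP : IsSylowOf 2 P L) : ∃ g ∈ L, ∀ x, x ∈ P ↔ ∃ c, g * j c * g⁻¹ = x := by
  obtain ⟨g, hg, e⟩ := h.exists_conj hP
  refine ⟨g, hg, fun x => ?_⟩
  rw [← e]
  exact ⟨by rintro ⟨_, ⟨c, rfl⟩, rfl⟩; exact ⟨c, rfl⟩, by
    rintro ⟨c, rfl⟩; exact ⟨_, ⟨c, rfl⟩, rfl⟩⟩

theorem SJ.transport {H : Type*} [Group H] [Finite H] {j : S0 →* H} (h : SJ j) (P : Sylow 2 H)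
    (S : Sylow 2 G) (e : (S : Subgroup G) ≃* (P : Subgroup H)) : ∃ j' : S0 →* G, SJ j' := by
  obtain ⟨g, -, hg⟩ := syl_iso h.inj h.syl (isSylowOf_top P)
  let φ : S0 →* P := ((MulAut.conj g).toMonoidHom.comp j).codRestrict _ fun c => (hg _).2 ⟨c, rfl⟩
  refine ⟨(S : Subgroup G).subtype.comp (e.symm.toMonoidHom.comp φ), fun a b e1 => h.inj ?_, ?_⟩
  · have := congrArg Subtype.val (e.symm.injective (Subtype.ext e1))
    simpa [φ] using this
  · convert isSylowOf_top S
    refine le_antisymm (by rintro _ ⟨c, rfl⟩; exact (e.symm (φ c)).2) fun x hx => ?_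
    obtain ⟨c, hc⟩ := (hg _).1 (e ⟨x, hx⟩).2
    exact ⟨c, by simp [show φ c = e ⟨x, hx⟩ from Subtype.ext hc]⟩

theorem SJ.isoM12 [IsSimpleGroup G] {j : S0 →* G} (h : SJ j)
    (hc : ∃ x y : G, orderOf x = 2 ∧ orderOf y = 2 ∧ ¬ IsConj x y) : Nonempty (G ≃* Spor.M12) :=
  MT.isoM12 (h.order (fun e => by
    have := h.comm.1 (c1.2 (e.1.1 (j x0) (j t0)))
    exact absurd this (by decide)) hc)

theorem SJ.cjH_u {j : S0 →* G} (h : SJ j) (e : IsConj (j z0) (j t0)) :
    Cj (Cen1 (j z0)) (j u0) (j t0) := by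
  have hc : ¬ IsSylowOf 2 (j.range ⊓ Cen1 (j t0)) (⊤ ⊓ Cen1 (j t0)) := fun hc => by
    obtain ⟨g, e⟩ := isConj_iff.1 e
    have := hc.card_le (R := conjS g j.range) (h.syl.isPGroup.map _) (le_inf le_top (by
      rw [← e, ← conj_c1]; exact conjS_mono g h.SH))
    rw [card_conjS, h.card_S, h.card_cen, tt_t.2.2.2] at this
    omega
  obtain ⟨R, r1, r2, r3⟩ := ex_gt (h.syl.isPGroup.to_le inf_le_left)
    (inf_le_inf_right _ le_top) hc
  obtain ⟨k, hk, e⟩ := h.sylH.exists_conj_le r1 fun g hg =>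
    h.fix_z tt_t tt_t fun c => cmem (r3 hg).2
  obtain ⟨s', e'⟩ := e (conj_mem_conjS (r2.le ⟨⟨t0, rfl⟩, c1.2 rfl⟩))
  have c : Cj (Cen1 (j z0)) (j t0) (j s') := e' ▸ cj_mk hk _
  have h1 : Nat.card (conjS k R) ≤ _ := (card_le_of_le (le_inf e (by
    rw [e', ← conj_c1]; exact conjS_mono k fun g hg => (r3 hg).1.2))).trans (h.card_cen s').le
  have h2 := card_lt_of_lt r2
  rw [h.card_cen, tt_t.2.2.2, ← card_conjS k] at h2
  obtain ⟨k1, k2⟩ := h.sq_of h.ot c.isConj
  rcases big_cen s' k1 (h2.trans_le h1) with rfl | rfl | rfl | rfl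
  · exact absurd rfl k2
  · exact absurd (h.inj (by simpa using e'.symm.trans (c1'.1 hk).symm)) (by decide : t0 ≠ z0)
  · exact c.symm
  · exact (h.cjH' rfl).trans c.symm

theorem iso_of_cen [IsSimpleGroup G] (u : Spor.M12) (hu : IsTwoCentralInvolution u) {t : G}
    (ht : orderOf t = 2) (e : Cen1 t ≃* Cen1 u) : Nonempty (G ≃* Spor.M12) := by
  obtain ⟨j, h, hn⟩ := exists_M12
  obtain ⟨ou, P, uP, hP⟩ := hu
  obtain ⟨g, -, hg⟩ := syl_iso h.inj h.syl (isSylowOf_top P)
  have m : ∀ c, g * j c * g⁻¹ ∈ Cen1 u := fun c => c1.2 (hP _ ((hg _).2 ⟨c, rfl⟩))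
  let φ : S0 →* Cen1 u := ((MulAut.conj g).toMonoidHom.comp j).codRestrict _ m
  have φi : Function.Injective φ := fun a b e1 => h.inj (by
    simpa [φ] using congrArg Subtype.val e1)
  have φs : IsSylowOf 2 φ.range ⊤ := by
    have := ((isSylowOf_top P).of_le (fun x hx => c1.2 (hP x hx)) le_top).subgroupOf le_rfl
    rw [subgroupOf_self] at this
    convert this
    ext x
    exact ⟨by rintro ⟨c, rfl⟩; exact (hg _).2 ⟨c, rfl⟩, fun hx => by
      obtain ⟨c, hc⟩ := (hg _).1 hx; exact ⟨c, Subtype.ext hc⟩⟩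
  let ψ : Cen1 u →* G := (Cen1 t).subtype.comp e.symm.toMonoidHom
  have ψi : Function.Injective ψ := (Cen1 t).subtype_injective.comp e.symm.injective
  have ψr : (⊤ : Subgroup (Cen1 u)).map ψ = Cen1 t := le_antisymm
    (by rintro _ ⟨x, -, rfl⟩; exact (e.symm x).2) fun x hx => ⟨e ⟨x, hx⟩, mem_top _, by simp [ψ]⟩
  have s1 := φs.map ψ
  rw [ψr, ← MonoidHom.range_comp] at s1
  have ji : Function.Injective (ψ.comp φ) := ψi.comp φi
  have zc' : ∀ x ∈ (ψ.comp φ).range, orderOf x = 2 → (ψ.comp φ).range ≤ Cen1 x →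
      x = ψ.comp φ z0 := by
    rintro _ ⟨c, rfl⟩ o hc
    refine congrArg _ ((by decide +kernel : ∀ c : S0, c ≠ 1 → (∀ d, d * c = c * d) → c = z0) c
      (fun e => ine o (by rw [e, map_one])) fun d => ji ?_)
    rw [map_mul, map_mul]; exact c1.1 (hc ⟨d, rfl⟩)
  have tS : t ∈ (ψ.comp φ).range := zpowers_le.1 (s1.le_of_le_normalizer (two_zp ht)
    (zpowers_le.2 (c1.2 rfl)) (nzp s1.le))
  have tz := zc' t tS ht s1.le
  have h' : SJ (ψ.comp φ) := ⟨ji, by
    by_contra hc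
    obtain ⟨R, r1, r2, r3⟩ := ex_gt s1.isPGroup le_top hc
    refine r2.ne' (s1.eq_of_le r1 r2.le fun k hk => c1'.2 ((zc' _ (cmem (r3 hk).2 tS) (iconj ht k)
      fun x hx => ?_).trans tz.symm))
    rw [← conj_c1, mem_conjS]
    exact s1.le (cmem' (r3 hk).2 hx)⟩
  refine h'.isoM12 ⟨_, _, h'.oz, h'.ot, fun c => hn ?_⟩
  obtain ⟨k, hk, c⟩ := h'.cjH_u c
  obtain ⟨l, -, rfl⟩ := ψr.ge (tz ▸ hk)
  have c' : l * φ u0 * l⁻¹ = φ t0 := ψi (by rw [map_mul, map_mul, map_inv]; exact c)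
  exact (isConj_mk g _).trans ((isConj_iff.2 ⟨l.1, congrArg Subtype.val c'⟩).trans
    (isConj_mk g _).symm)

end MT
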