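import Cfsg.Agent.MT.Kt

/-! The order formula in the core-free case. -/

set_option autoImplicit false
set_option linter.unusedVariables false
set_option linter.unusedSectionVars false

namespace MT

open Cfsg Subgroup FT H4 H5 GW

universe u

variable {G : Type u} [Group G] [Finite G]

theorem card_cg {A B : G → Prop} (g : G) (h : ∀ a, A a ↔ B (g * a * g⁻¹)) :
    Nat.card {a // A a} = Nat.card {a // B a} :=
  Nat.card_congr (Equiv.subtypeEquiv (MulAut.conj g).toEquiv h)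

theorem card_bij {α β : Type*} {A : α → Prop} {B : β → Prop} (f : α → β)
    (hf : Function.Injective f) (h1 : ∀ a, A a → B (f a)) (h2 : ∀ b, B b → ∃ a, A a ∧ f a = b) :
    Nat.card {a // A a} = Nat.card {b // B b} :=
  Nat.card_congr (Equiv.ofBijective (Subtype.map f h1) ⟨Subtype.map_injective h1 hf, fun b => by
    obtain ⟨a, ha, e⟩ := h2 b b.2; exact ⟨⟨a, ha⟩, Subtype.ext e⟩⟩)

theorem isConj_cg {z a : G} (g : G) : IsConj z a ↔ IsConj z (g * a * g⁻¹) :=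
  ⟨fun e => e.trans (isConj_mk g a), fun e => e.trans (isConj_mk g a).symm⟩

theorem c1_cg {a b : G} (g : G) : a ∈ Cen1 b ↔ g * a * g⁻¹ ∈ Cen1 (g * b * g⁻¹) := by
  rw [← conj_c1, conj_mem_conjS_iff]

theorem SJ.mem_zp {j : S0 →* G} (h : SJ j) (w : S0) :
    j z0 ∈ zpowers (j w) ↔ ∃ k : Fin 8, w ^ (k : ℕ) = z0 := by
  rw [← mem_powers_iff_mem_zpowers, Submonoid.mem_powers_iff]
  exact ⟨fun ⟨n, e⟩ => ⟨⟨n % 8, Nat.mod_lt _ (by decide)⟩, h.inj (by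
    rw [← e, ← pow_eq_pow_mod n (pow8 w), map_pow])⟩, fun ⟨k, e⟩ => ⟨k, by rw [← map_pow, e]⟩⟩

theorem inv_mem_zp {t w : G} (ht : orderOf t = 2) (h : t ∈ zpowers w) (h1 : t ∉ zpowers (w * w)) :
    ∃ a ∈ zpowers (w * w), t = w * a := by
  obtain ⟨n, rfl⟩ := h
  rcases Int.even_or_odd' n with ⟨m, rfl | rfl⟩
  · exact absurd ⟨m, by simp only [zpow_mul, zpow_two]⟩ h1
  · exact ⟨_, ⟨m, rfl⟩, by simp only [add_comm _ (1 : ℤ), zpow_add, zpow_mul, zpow_two, zpow_one]⟩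

namespace KK

variable {j : S0 →* G} {K0 K1 : Subgroup G} (k : KK j K0 K1) (h : SJ j)
include k h

theorem le : K0 ≤ Cen1 (j t0) := k.le0.trans k.le1

theorem cjU {c : S0} (hc : inU c = true) (c1 : c ≠ 1) :
    Cj (K0 ⊓ Nor (U0.map j)) (j z0) (j c) := by
  have cm : ∀ c, inU c = true → U0.map j ≤ K0 ⊓ Cen1 (j c) := fun c hc =>
    le_inf k.syl.le (by
      rintro _ ⟨d, hd, rfl⟩
      exact h.comm.2 ((by decide +kernel : ∀ c d, inU c = true → inU d = true → d * c = c * d)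
        c d hc hd))
  have e : Cj K0 (j z0) (j c) := by
    rcases U_cases c hc with rfl | rfl | rfl | rfl
    exacts [absurd rfl c1, Cj.refl _ _, k.zu, k.zuz]
  obtain ⟨g, hg, e1, e2⟩ := ext0 (k.syl.of_le (cm c hc) inf_le_left) k.syl.isPGroup (cm z0 rfl) e
  exact ⟨g, ⟨hg, mnor e2⟩, e1⟩

theorem cls {B : Subgroup G} (h1 : K0 ⊓ Nor (U0.map j) ≤ B) (h2 : B ≤ K0) {a : G} (ha : a ∈ B)
    (o : orderOf a = 2) : Cj B (j z0) a := by
  obtain ⟨g, hg, c, hc, e⟩ := conj_in2 (k.syl.of_le ((le_inf k.syl.le le_normalizer).trans h1) h2)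
    ha (ii o)
  exact ((k.cjU h hc fun e' => ine (iconj o g) (by rw [← e, e', map_one])).mono h1).trans
    (e ▸ (cj_mk hg a).symm)

theorem rk2 : BS.Rk2 K0 :=
  ⟨j z0, k.syl.le ⟨z0, rfl, rfl⟩, j u0, k.syl.le ⟨u0, rfl, rfl⟩, ⟨ine h.oz, ii h.oz⟩,
    ⟨ine h.ou, ii h.ou⟩, h.f4.ne.symm, h.f4.c⟩

theorem se {M : Subgroup G} (h1 : K0 ⊓ Cen1 (j z0) ≤ M) (h2 : K0 ⊓ Nor (U0.map j) ≤ M)
    (hn : ¬ K0 ≤ M) : BS.SEin K0 (K0 ⊓ M) := by
  have h3 := le_inf inf_le_left h2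
  refine ⟨inf_le_left, fun e => hn (e.trans inf_le_right), BS.even_of_inv
    (h3 ⟨k.syl.le ⟨z0, rfl, rfl⟩, le_normalizer ⟨z0, rfl, rfl⟩⟩) (ine h.oz) (ii h.oz),
    fun g hg gn => BS.odd_of_no_inv fun a ha hi => gn ?_⟩
  have o := o2 hi.2 hi.1
  obtain ⟨b, hb, rfl⟩ := k.cls h h3 inf_le_left ha.1 o
  obtain ⟨c, hc, e⟩ := k.cls h h3 inf_le_left (mem_conjS.1 ha.2) (by rwa [H9.orderOf_conj'])
  have h4 : b⁻¹ * g * c ∈ K0 := K0.mul_mem (K0.mul_mem (K0.inv_mem hb.1) hg) hc.1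
  have : b⁻¹ * g * c ∈ K0 ⊓ M := ⟨h4, h1 ⟨h4, c1'.2 (by
      calc b⁻¹ * g * c * j z0 * (b⁻¹ * g * c)⁻¹ = b⁻¹ * g * (c * j z0 * c⁻¹) * g⁻¹ * b := by group
        _ = _ := by rw [e]; group)⟩⟩
  exact mem_of_eq (mul_mem (mul_mem hb this) (inv_mem hc)) (by group)

end KK

theorem Pat.odd_le {j : S0 →* G} (h : Pat j) {X M : Subgroup G} (hX : Odd (Nat.card X))
    (h1 : X ≤ Cen1 (j t0)) (h2 : U0.map j ≤ Nor X)
    (h3 : ∀ c, inU c = true → c ≠ 1 → Uo (j c) ≤ M) : X ≤ M := by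
  have k : ∀ c, inU c = true → c ≠ 1 → X ⊓ Cen1 (j c) ≤ M := fun c hc c1 g hg => by
    obtain ⟨k1, k2, k3⟩ := (by decide +kernel : ∀ c, inU c = true → inV c = true ∧ t0 ≠ c ∧
      t0 * c = c * t0) c hc
    exact h3 c hc c1 (h.bal (h.pZ k1 c1) h.ot (fun e => k2 (h.inj e)) (h.comm.2 k3) (h1 hg.1) hg.2
      (odd_ord hX hg.1))
  exact h.f4.gen (h2 ⟨z0, rfl, rfl⟩) (h2 ⟨u0, rfl, rfl⟩) hX (k z0 rfl (by decide))
    (k u0 rfl (by decide)) (map_mul j z0 u0 ▸ k _ rfl (by decide))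

theorem Pat.UK {j : S0 →* G} (h : Pat j) : U0.map j ≤ Cen1 (j t0) := by
  rintro _ ⟨c, hc, rfl⟩
  exact h.tK ((by decide +kernel : ∀ c, inU c = true → c * t0 = t0 * c) c hc)

/-- the core-free case with the fusion pattern of `M₁₂` -/
structure MD (j : S0 →* G) : Prop extends Pat j where
  o : Uo (j z0) = ⊥
  ze : IsConj (j z0) (j e0)

namespace MD

variable {j : S0 →* G} (h : MD j)
include h

theorem hs' : HS j := h.hs h.o

theorem cZ {x : G} : IsConj (j z0) x ∧ x ∈ Cen1 (j z0) ↔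
    x = j z0 ∨ Cj (Cen1 (j z0)) (j u0) x ∨ Cj (Cen1 (j z0)) (j e0) x := by
  constructor
  · rintro ⟨e, hx⟩
    rcases h.hs'.cls hx ((H9.orderOf_of_isConj e).trans h.oz) with e' | e' | e' | e'
    · exact Or.inl e'
    · exact Or.inr (Or.inl e')
    · exact absurd (e.trans e'.isConj.symm) h.ne
    · exact Or.inr (Or.inr e')
  · rintro (rfl | e | e)
    · exact ⟨IsConj.refl _, c1.2 rfl⟩
    · exact ⟨h.zu.trans e.isConj, e.mem (h.SH ⟨_, rfl⟩)⟩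
    · exact ⟨h.ze.trans e.isConj, e.mem (h.SH ⟨_, rfl⟩)⟩

theorem cT {y : G} (e : IsConj (j t0) y) (hy : y ∈ Cen1 (j z0)) :
    Cj (Cen1 (j z0)) (j t0) y := by
  rcases h.hs'.cls hy ((H9.orderOf_of_isConj e).trans h.ot) with e' | e' | e' | e'
  · exact absurd (e' ▸ e.symm) h.ne
  · exact absurd ((h.zu.trans e'.isConj).trans e.symm) h.ne
  · exact e'
  · exact absurd ((h.ze.trans e'.isConj).trans e.symm) h.ne

theorem n30 : Nat.card {x // Cj (Cen1 (j z0)) (j u0) x ∨ Cj (Cen1 (j z0)) (j e0) x} = 30 := by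
  rw [H9.card_subtype_or _ _ fun x h1 h2 => by
    obtain ⟨c, hc, rfl⟩ := h.hs'.cj_u.1 h1
    exact h.hs'.e_nQ h2 ⟨c, (by decide +kernel : ∀ b, inV b = true → inQ b = true) c hc.1, rfl⟩,
    h.hs'.card_e, card_img h.inj _ fun g => h.hs'.cj_u]
  decide +kernel

theorem n31 {a : G} (ha : IsConj (j z0) a) :
    Nat.card {x // IsConj (j z0) x ∧ x ∈ Cen1 a} = 31 := by
  obtain ⟨g, rfl⟩ := isConj_iff.1 ha
  rw [← card_cg (A := fun x => IsConj (j z0) x ∧ x ∈ Cen1 (j z0)) g fun a =>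
    and_congr (isConj_cg g) (c1_cg g), H9.card_subtype_congr fun a => h.cZ,
    H9.card_subtype_or _ _ ?_, h.n30, H9.card_subtype_eq_one]
  rintro _ rfl (⟨k, hk, e⟩ | ⟨k, hk, e⟩) <;>
    exact absurd (h.inj (by simpa using e.trans (c1'.1 hk).symm)) (by decide)

theorem az : H8.thA (j z0) (j t0) (j z0) = 240 := by
  have k0 : ∀ p : G × G, (IsConj (j z0) p.1 ∧ IsConj (j t0) p.2) ∧ j z0 ∈ zpowers (p.1 * p.2) →
      p.1 ∈ Cen1 (j z0) ∧ p.2 ∈ Cen1 (j z0) := fun p hp => by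
    have := H8.comm_of_mem_zpowers_mul (ii ((H9.orderOf_of_isConj hp.1.1).trans h.oz))
      (ii ((H9.orderOf_of_isConj hp.1.2).trans h.ot)) (ii h.oz) hp.2
    exact ⟨c1.2 this.1, c1.2 this.2⟩
  have k : ∀ a, IsConj (j z0) (j a) → (Finset.univ.filter fun c => isT c = true ∧
      ∃ k : Fin 8, (a * c) ^ (k : ℕ) = z0).card = 8 → ∀ x, Cj (Cen1 (j z0)) (j a) x →
      Nat.card {p : G × G // ((IsConj (j z0) p.1 ∧ IsConj (j t0) p.2) ∧
        j z0 ∈ zpowers (p.1 * p.2)) ∧ p.1 = x} = 8 := by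
    rintro a ha h8 _ ⟨g, hg, rfl⟩
    have e0 : ∀ c, j z0 ∈ zpowers (g * j a * g⁻¹ * (g * j c * g⁻¹)) ↔
        ∃ k : Fin 8, (a * c) ^ (k : ℕ) = z0 := fun c => by
      rw [← h.mem_zp, conj_mul, ← map_mul]
      refine ⟨fun e => ?_, fun e => c1'.1 hg ▸ H8.conj_mem_zpowers_conj g e⟩
      have := H8.conj_mem_zpowers_conj g⁻¹ e
      rw [c1'.1 (inv_mem hg)] at this
      simpa [mul_assoc] using this
    rw [← h8]
    refine card_img (w := fun c => (g * j a * g⁻¹, g * j c * g⁻¹)) (fun c d e =>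
      h.inj (by simpa using e)) _ fun p => ⟨?_, ?_⟩
    · rintro ⟨hp, e⟩
      obtain ⟨c, hc, e'⟩ := h.hs'.cj_t.1 ((h.cT hp.1.2 (k0 p hp).2).trans (cj_mk (inv_mem hg) _))
      have e2 : g * j c * g⁻¹ = p.2 := by rw [e']; group
      exact ⟨c, ⟨hc, (e0 c).1 (by rw [← e, e2]; exact hp.2)⟩, Prod.ext e.symm e2⟩
    · rintro ⟨c, hc, rfl⟩
      exact ⟨⟨⟨(isConj_cg g).1 ha, (isConj_cg g).1 (h.pT hc.1)⟩, (e0 c).2 hc.2⟩, rfl⟩
  rw [H8.thA, H9.card_eq_mul_of_fibers _ _ Prod.fst (fun p hp => ?_) 8 fun x hx =>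
    Or.elim hx (k u0 h.zu (by decide +kernel) x) (k e0 h.ze (by decide +kernel) x), h.n30]
  refine (h.cZ.1 ⟨hp.1.1, (k0 p hp).1⟩).resolve_left fun e => ?_
  obtain ⟨c, hc, e'⟩ := h.hs'.cj_t.1 (h.cT hp.1.2 (k0 p hp).2)
  have := hp.2
  rw [e, ← e', ← map_mul, h.mem_zp] at this
  exact (by decide +kernel : ∀ c, isT c = true → ¬ ∃ k : Fin 8, (z0 * c) ^ (k : ℕ) = z0) c hc this

theorem big : 79 ≤ Nat.card {x // IsConj (j z0) x} := by
  have k : ∀ e, isE e = true → 24 ≤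
      Nat.card {x // (IsConj (j z0) x ∧ x ∈ Cen1 (j e)) ∧ x ∉ Cen1 (j z0)} := fun e he => by
    obtain ⟨⟨g, e1⟩, e2⟩ := (by decide +kernel : ∀ e, isE e = true → (∃ g, g * e0 * g⁻¹ = e) ∧
      (Finset.univ.filter fun c => c * e = e * c ∧ c ≠ 1).card = 7) e he
    have h1 := H9.card_subtype_split (fun x => IsConj (j z0) x ∧ x ∈ Cen1 (j e))
      (· ∈ Cen1 (j z0))
    rw [h.n31 (h.ze.trans (cjS j e1).isConj)] at h1
    have h2 := card_img_le h.inj (fun c => c * e = e * c ∧ c ≠ 1)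
      (A := fun x => (IsConj (j z0) x ∧ x ∈ Cen1 (j e)) ∧ x ∈ Cen1 (j z0)) fun x hx => by
        obtain ⟨c, rfl⟩ := h.hs'.ce he ⟨hx.2, hx.1.2⟩
        exact ⟨c, ⟨h.comm.1 hx.1.2, (h.sq_of h.oz hx.1.1).2⟩, rfl⟩
    omega
  have h1 := H9.card_subtype_split (fun x => IsConj (j z0) x) (· ∈ Cen1 (j z0))
  have h2 := H9.card_subtype_or _ _ (fun x (a : (IsConj (j z0) x ∧ x ∈ Cen1 (j e0)) ∧
    x ∉ Cen1 (j z0)) (b : (IsConj (j z0) x ∧ x ∈ Cen1 (j (y0 * e0))) ∧ x ∉ Cen1 (j z0)) => a.2 (by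
      have := (c1c.1 b.1.2).mul_right (c1c.1 a.1.2)
      have := this.mul_right this
      rw [← map_mul, ← map_mul] at this
      exact c1c.2 this))
  have h3 := H9.card_subtype_le_of_imp (B := fun x => IsConj (j z0) x ∧ x ∉ Cen1 (j z0))
    (fun x (a : ((IsConj (j z0) x ∧ x ∈ Cen1 (j e0)) ∧ x ∉ Cen1 (j z0)) ∨
      ((IsConj (j z0) x ∧ x ∈ Cen1 (j (y0 * e0))) ∧ x ∉ Cen1 (j z0))) =>
        a.elim (fun a => ⟨a.1.1, a.2⟩) fun a => ⟨a.1.1, a.2⟩)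
  have := k e0 rfl
  have := k (y0 * e0) rfl
  rw [h.n31 (IsConj.refl _)] at h1
  omega

theorem odd_bot {X : Subgroup G} (hX : Odd (Nat.card X)) (h1 : X ≤ Cen1 (j t0))
    (h2 : U0.map j ≤ Nor X) : X = ⊥ :=
  eq_bot_iff.2 (h.odd_le hX h1 h2 fun c hc c1 => by
    obtain ⟨g, e⟩ := isConj_iff.1 (h.pZ ((by decide +kernel : ∀ c, inU c = true → inV c = true)
      c hc) c1)
    rw [← e, ← conj_Uo, h.o]
    exact (Subgroup.map_bot _).le)

theorem zU' {x : G} (e : IsConj (j z0) x) (h1 : x ∈ Cen1 (j t0)) (h2 : x ∈ Cen1 (j z0)) :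
    ∃ c, (inU c = true ∧ c ≠ 1) ∧ j c = x := by
  obtain ⟨c, hc, rfl⟩ := h.zU (h.hs'.ct.le ⟨h2, h1⟩) e
  exact ⟨c, ⟨hc, (h.sq_of h.oz e).2⟩, rfl⟩

theorem kK {p : G × G} (hp : (IsConj (j z0) p.1 ∧ IsConj (j t0) p.2) ∧
    j t0 ∈ zpowers (p.1 * p.2)) : p.1 ∈ Cen1 (j t0) ∧ p.2 ∈ Cen1 (j t0) ∧
      ∀ L : Subgroup G, (∀ x ∈ Cen1 (j t0), IsConj (j z0) x → x ∈ L) → j t0 ∉ L →
        p.1 * p.2 * (p.1 * p.2) ∈ L ∧ ∃ a ∈ zpowers (p.1 * p.2 * (p.1 * p.2)),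
          j t0 = p.1 * p.2 * a := by
  have o2 := (H9.orderOf_of_isConj hp.1.2).trans h.ot
  have := H8.comm_of_mem_zpowers_mul (ii ((H9.orderOf_of_isConj hp.1.1).trans h.oz)) (ii o2)
    (ii h.ot) hp.2
  refine ⟨c1.2 this.1, c1.2 this.2, fun L h1 h2 => ?_⟩
  have e : p.1 * p.2 * (p.1 * p.2) ∈ L := mem_of_eq (mul_mem (h1 _ (c1.2 this.1) hp.1.1) (h1 _
    ((cj_mk (c1.2 this.2) p.1).mem (c1.2 this.1)) ((isConj_cg p.2).1 hp.1.1)))
      (by rw [iinv o2]; group)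
  exact ⟨e, inv_mem_zp h.ot hp.2 fun e' => h2 (zpowers_le.2 e e')⟩

theorem thm : Nat.card G = 240 * Nat.card (Cen1 (j t0)) + H8.thA (j z0) (j t0) (j t0) * 192 := by
  rw [H8.thompson_order h.oz h.ot h.ne fun x => h.cls2, h.az, ← h.hs'.card]

theorem exX : ∃ x ∈ Cen1 (j t0), IsConj (j z0) x ∧ x ∉ Cen1 (j z0) := by
  by_contra hn
  push Not at hn
  have k := fun x hx e => h.zU' e hx (hn x hx e)
  have c3 : (Finset.univ.filter fun c => inU c = true ∧ c ≠ 1).card = 3 := by decide +kernel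
  have h1 := card_cj (Cen1 (j t0)) (j z0)
  have h2 := card_img_le h.inj _ fun x (hx : Cj (Cen1 (j t0)) (j z0) x) =>
    k x (hx.mem (h.tK (by decide))) hx.isConj
  rw [inf_comm, h.hs'.ct, h.card_cen, tt_t.2.2.2] at h1
  have h3 : H8.thA (j z0) (j t0) (j t0) ≤ 3 := by
    rw [← c3]
    refine card_img_le (w := fun c => (j c, j (c * t0))) (fun c d e => h.inj (Prod.mk.inj e).1) _
      fun p hp => ?_
    obtain ⟨p1, p2, p3⟩ := h.kK hp
    obtain ⟨c, hc, e⟩ := k _ p1 hp.1.1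
    obtain ⟨⟨d, hd, e1⟩, a, ha, e2⟩ := p3 (U0.map j) (fun x hx e => by
      obtain ⟨c, hc, rfl⟩ := k x hx e; exact ⟨c, hc.1, rfl⟩) (by
        rintro ⟨c, hc, e⟩; rw [h.inj e] at hc; exact absurd hc (by decide : ¬ inU t0 = true))
    rw [← e1, ← MonoidHom.map_zpowers] at ha
    obtain ⟨b, hb, rfl⟩ := ha
    have hb' : inU b = true := zpowers_le.2 hd hb
    have e3 : p.2 = j (c⁻¹ * t0 * b⁻¹) := by rw [map_mul, map_mul, map_inv, map_inv, e, e2]; group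
    refine ⟨c, hc, Prod.ext e ?_⟩
    rw [← e, e3, ← map_mul, ← map_mul] at e1
    have e4 := h.inj e1
    rw [(by decide +kernel : ∀ c b, inU c = true → inU b = true →
      c * (c⁻¹ * t0 * b⁻¹) * (c * (c⁻¹ * t0 * b⁻¹)) = 1) c b hc.1 hb'] at e4
    rw [e4, zpowers_one_eq_bot] at hb
    rw [e3, mem_bot.1 hb, (by decide +kernel : ∀ c, inU c = true → c⁻¹ = c) c hc.1]
    simp
  have h4 := h.thm
  have h5 := H9.card_class_mul (j z0)
  have h6 := h.big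
  rw [show Nat.card (H9.Cen (j z0)) = 192 from h.hs'.card] at h5
  omega

theorem cI : ∃ K0 K1, KK j K0 K1 := by
  refine h.caseI (by_contra fun hn => ?_)
  obtain ⟨x, hx, -, h2⟩ := h.exX
  have := h.caseII hn hx
  rw [h.odd_bot (X := Uo _) (odd_Oo _) (Uo_le _) (h.UK.trans (nUo _)), sup_bot_eq] at this
  exact h2 this.2

theorem order : Nat.card G = 95040 := by
  obtain ⟨K0, K1, k⟩ := h.cI
  have j0 := h.toSJ
  have Uz : U0.map j ≤ Cen1 (j z0) := (mapS j U0).trans h.SH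
  have cU : K0 ⊓ Cen1 (j z0) = U0.map j := k.syl.eq_of_le (h.syl.isPGroup.to_le fun g hg =>
    (h.hs'.ct.le ⟨hg.2, k.le j0 hg.1⟩).1) (le_inf k.syl.le Uz) inf_le_left
  have c3 : (Finset.univ.filter fun c => inU c = true ∧ c ≠ 1).card = 3 := by decide +kernel
  have cl : ∀ a ∈ K0, orderOf a = 2 → Cj K0 (j z0) a := fun a => k.cls j0 inf_le_left le_rfl
  have zK : j z0 ∈ K0 := k.syl.le ⟨z0, rfl, rfl⟩
  have UN : U0.map j ≤ K0 ⊓ Nor (U0.map j) := le_inf k.syl.le le_normalizer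
  have h1 := card_cj (K0 ⊓ Nor (U0.map j)) (j z0)
  rw [le_antisymm ((inf_le_inf_right _ inf_le_left).trans cU.le) (le_inf UN Uz), h.card_U,
    card_img h.inj (fun c => inU c = true ∧ c ≠ 1) fun x => ⟨fun ⟨g, hg, e⟩ => by
      obtain ⟨c, hc, e'⟩ := cmem hg.2 ⟨z0, rfl, rfl⟩
      exact ⟨c, ⟨hc, (h.sq_of h.oz (e' ▸ isConj_mk g _)).2⟩, e'.trans e⟩, by
      rintro ⟨c, hc, rfl⟩; exact k.cjU j0 hc.1 hc.2⟩, c3] at h1
  have h2 := (se_facts (k.se j0 (cU.le.trans le_normalizer) inf_le_right fun e => by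
    obtain ⟨x, hx, e1, e2⟩ := h.exX
    obtain ⟨g, hg, rfl⟩ := cl x (k.mem x hx e1) ((H9.orderOf_of_isConj e1).trans h.oz)
    exact e2 (Uz (cmem (e hg) ⟨z0, rfl, rfl⟩))) (k.rk2 j0)).2 (h.odd_bot (odd_Oo _)
      ((pPrimeCoreIn_le _ _).trans (k.le j0)) (k.syl.le.trans (lOo _))) _
      (k.syl.of_le UN inf_le_left)
  have h3 := card_cj K0 (j z0)
  rw [cU, h.card_U] at h3
  rw [← h1, h.card_U] at h2
  have h4 : H8.thA (j z0) (j t0) (j t0) = Nat.card {x // Cj K0 (j z0) x} * 13 := by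
    refine H9.card_eq_mul_of_fibers _ _ Prod.fst (fun p hp => cl _ (k.mem _ (h.kK hp).1 hp.1.1)
      ((H9.orderOf_of_isConj hp.1.1).trans h.oz)) 13 fun x hx => ?_
    have ox := (H9.orderOf_of_isConj hx.isConj).trans h.oz
    have xK := hx.mem zK
    have xt : x * j t0 = j t0 * x := c1.1 (k.le j0 xK)
    have h5 : Nat.card {y // Cj K0 (j z0) y ∧ y ∈ Cen1 x} = 3 := by
      obtain ⟨g, hg, rfl⟩ := hx
      rw [← card_cg (A := fun y => Cj K0 (j z0) y ∧ y ∈ Cen1 (j z0)) g fun a => and_congr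
        ⟨fun e => e.trans (cj_mk hg a), fun e => e.trans (cj_mk hg a).symm⟩ (c1_cg g), ← c3]
      refine card_img h.inj _ fun y => ⟨fun e => h.zU' e.1.isConj (k.le j0 (e.1.mem zK)) e.2, ?_⟩
      rintro ⟨c, hc, rfl⟩
      exact ⟨(k.cjU j0 hc.1 hc.2).mono inf_le_left, h.SH ⟨c, rfl⟩⟩
    have h6 := H9.card_subtype_split (Cj K0 (j z0)) (· ∈ Cen1 x)
    have h7 := H9.card_subtype_or (· = x) (fun y => Cj K0 (j z0) y ∧ y ∉ Cen1 x)
      fun y e1 e2 => e2.2 (c1.2 (by rw [e1]))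
    rw [H9.card_subtype_eq_one] at h7
    rw [show 13 = Nat.card {y // y = x ∨ (Cj K0 (j z0) y ∧ y ∉ Cen1 x)} by omega]
    refine (card_bij (fun y => (x, j t0 * y)) (fun a b e => by simpa using e)
      (fun y hy' => ?_) ?_).symm
    · have hy : Cj K0 (j z0) y := hy'.elim (fun e => e.symm ▸ hx) fun e => e.1
      refine ⟨⟨⟨hx.isConj, ?_⟩, ?_⟩, rfl⟩
      · obtain ⟨g, hg, e⟩ := hy
        change IsConj _ (_ * y)
        rw [← e, ← c1'.1 (k.le j0 hg), conj_mul, ← map_mul, c1'.1 (k.le j0 hg)]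
        exact (isConj_cg g).1 (h.pT rfl)
      have oy := (H9.orderOf_of_isConj hy.isConj).trans h.oz
      have m := mul_mem xK (hy.mem zK)
      have ho : Odd (orderOf (x * y)) := by
        rcases hy' with e | e
        · rw [e, ii ox]; simp
        · by_contra ho
          obtain ⟨i, oi, hi⟩ := H9.exists_inv_mem_zpowers
            (even_iff_two_dvd.1 (Nat.not_odd_iff_even.1 ho))
          have e1 := H8.comm_of_mem_zpowers_mul (ii ox) (ii oy) (ii oi) hi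
          obtain ⟨g, hg, e2⟩ := (cl i (zpowers_le.2 m hi) oi).symm
          have e3 : ∀ a ∈ K0, a * i = i * a → g * a * g⁻¹ ∈ U0.map j := fun a ha e =>
            cU.le ⟨(cj_mk hg a).mem ha, e2 ▸ (c1_cg g).1 (c1.2 e)⟩
          obtain ⟨c, hc, e4⟩ := e3 x xK e1.1
          obtain ⟨d, hd, e5⟩ := e3 y (hy.mem zK) e1.2
          exact e.2 ((c1_cg g).2 (by
            rw [← e4, ← e5]
            exact h.comm.2 ((by decide +kernel : ∀ c d, inU c = true → inU d = true →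
              d * c = c * d) c d hc hd)))
      obtain ⟨n, hn⟩ := ho
      refine ⟨(orderOf (x * y) : ℕ), ?_⟩
      change (x * (j t0 * y)) ^ ((orderOf (x * y) : ℕ) : ℤ) = _
      rw [zpow_natCast, ← mul_assoc, xt, mul_assoc, (c1c.1 (k.le j0 m)).symm.mul_pow,
        pow_orderOf_eq_one, hn, pow_succ, pow_mul, sq, ii h.ot]
      simp
    · rintro ⟨x', y⟩ ⟨hp, e0⟩
      obtain rfl : x = x' := e0.symm
      obtain ⟨-, p2, p3⟩ := h.kK hp
      obtain ⟨p4, a, ha, e⟩ := p3 K0 k.mem k.t0'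
      simp only at *
      have oy := (H9.orderOf_of_isConj hp.1.2).trans h.ot
      have yt : y * j t0 = j t0 * y := c1.1 p2
      have e1 : j t0 * y * (j t0 * y) = 1 := by
        rw [mul_assoc, ← mul_assoc y, yt, mul_assoc, ii oy, mul_one, ii h.ot]
      refine ⟨j t0 * y, ?_, by simp [← mul_assoc, ii h.ot]⟩
      by_cases e2 : j t0 * y ∈ Cen1 x
      · have e3 : x * y * (x * y) = 1 := by
          calc x * y * (x * y) = x * j t0 * (j t0 * y * x) * y := by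
                rw [mul_assoc x (j t0), ← mul_assoc (j t0), ← mul_assoc (j t0), ii h.ot]; group
            _ = 1 := by
                rw [c1.1 e2, xt, mul_assoc (j t0), ← mul_assoc x, ii ox, one_mul, mul_assoc,
                  mul_assoc, ii oy, mul_one, ii h.ot]
        rw [e3, zpowers_one_eq_bot, mem_bot] at ha
        exact Or.inl (by rw [e, ha, mul_one, mul_assoc, ii oy, mul_one])
      · refine Or.inr ⟨cl _ (mem_of_eq (mul_mem xK (inv_mem (zpowers_le.2 p4 ha))) ?_)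
          (o2 e1 fun e3 => e2 (e3 ▸ one_mem _)), e2⟩
        symm
        calc j t0 * y = j t0 * x⁻¹ * j t0 * a⁻¹ := by nth_rewrite 3 [e]; group
          _ = _ := by rw [iinv ox, ← xt, mul_assoc x, ii h.ot, mul_one]
  have := h.thm
  have := k.card
  omega

end MD

end MT
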