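import Cfsg.Agent.MT.Ord

/-! The signalizer functor argument: a simple group with the two-class pattern has order 95040. -/

set_option autoImplicit false
set_option linter.unusedVariables false
set_option linter.unusedSectionVars false

namespace MT

open Cfsg Subgroup FT H4 H5 GW

universe u

variable {G : Type u} [Group G] [Finite G]

theorem UV : ∀ c, inU c = true → inV c = true := by decide +kernel

theorem W_cases : ∀ c : S0, inW c = true → c * c = 1 →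
    inV c = true ∨ isT c = true ∨ ∃ g, g * e0 * g⁻¹ = c := by decide +kernel

theorem odd_bot_simple [IsSimpleGroup G] {z : G} (oz : orderOf z = 2) {W : Subgroup G}
    (hW : Odd (Nat.card W)) (h : ⊤ ≤ Nor W) : W = ⊥ := by
  have := le_Oo le_top h hW
  rwa [Oo, pPrimeCoreIn_top, H3.oddCore_eq_bot_of_simple oz, le_bot_iff] at this

/-- the signalizer closure -/
structure SW (j : S0 →* G) (W : Subgroup G) : Prop where
  odd : Odd (Nat.card W)
  nV : Nor (V0.map j) ≤ Nor W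
  nU : Nor (U0.map j) ≤ Nor W
  le : ∀ c, inV c = true → c ≠ 1 → Uo (j c) ≤ W

namespace Pat

variable {j : S0 →* G} (h : Pat j)
include h

theorem sig : ∃ W, SW j W := by
  obtain ⟨k1, k2⟩ : (∀ c d, inV c = true → inV d = true → c * d = d * c) ∧
    ∀ c, inV c = true → c * c = 1 := by decide +kernel
  have hV : IsElementaryAbelian 2 (V0.map j) := ⟨⟨⟨by
    rintro ⟨_, c, hc, rfl⟩ ⟨_, d, hd, rfl⟩
    exact Subtype.ext (c1.1 (h.comm.2 (k1 c d hc hd)))⟩⟩, by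
    rintro _ ⟨c, hc, rfl⟩
    rw [sq, ← map_mul, k2 c hc, map_one]⟩
  have n1 : ∀ c, j c ≠ 1 → c ≠ 1 := fun c e e' => e (by rw [e', map_one])
  have hθ := SS.core_sig hV (fun a _ _ => odd_solv (odd_Oo _)) (by
    rintro _ ⟨c, hc, rfl⟩ c1 _ ⟨d, hd, rfl⟩ d1 g hg
    by_cases e : j c = j d
    · exact e ▸ hg.1
    · exact h.bal (h.pZ hd (n1 d d1)) (h.ord (k2 c hc) (n1 c c1)) e (h.comm.2 (k1 c d hc hd))
        (Uo_le _ hg.1) hg.2 (odd_ord (odd_Oo _) hg.1))
  have hc := SS.ssft_two hV (by rw [V0, h.card_map, card_V0]; rfl) hθ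
  have nc : ∀ A : Subgroup G, Nor A ≤ Nor (Dich.cl A) := fun A g hg => by
    rw [mem_normalizer_iff_conjS, Dich.conjS_cl, mem_normalizer_iff_conjS.1 hg]
  refine ⟨Dich.cl (V0.map j), Nat.odd_iff.2 (Nat.two_dvd_ne_zero.1
    (mem_fam_iff.1 (hc.closure_mem hθ)).2.1), nc _, (nc _).trans_eq ?_, fun c hc c1 =>
      SS.le_closure' (θ := Dich.th) ⟨c, hc, rfl⟩ fun e => c1 (h.inj (e.trans (map_one j).symm))⟩
  rw [Dich.cl, hc.closure_eq hV hθ (map_mono UV) (by rw [h.card_U]; rfl)]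

theorem top_of {M : Subgroup G} (h1 : Cen1 (j z0) ≤ M) (h2 : Cen1 (j t0) ≤ M)
    (h3 : Cj M (j z0) (j u0)) (h4 : Cj M (j z0) (j e0) ∨ Cj M (j t0) (j e0)) : M = ⊤ := by
  refine two_cl h.oz h.ot (h1 (c1.2 rfl)) h.ne (fun a ha o => ?_) h1 h2
  obtain ⟨g, hg, e⟩ := conj_in2 (h.syl.of_le (h.SH.trans h1) le_top) ha (ii o)
  have c := (cj_mk hg a).symm
  rcases h.loc.1.cls (h.SH e) (iconj o g) with e | e | e | e
  · exact Or.inl (e ▸ c)
  · exact Or.inl (h3.trans ((e.mono h1).trans c))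
  · exact Or.inr ((e.mono h1).trans c)
  · exact h4.imp (fun e' => e'.trans ((e.mono h1).trans c))
      fun e' => e'.trans ((e.mono h1).trans c)

theorem fixz {g : G} (e1 : g * j u0 * g⁻¹ = j z0) {a b : S0} (ea : j a = g * j v0 * g⁻¹)
    (eb : j b = g * j t0 * g⁻¹) (ha : inV a = true) (hb : inW b = true) (hb' : isT b = true) :
    False := by
  have e : j (a * b * (a * b)) = g * j z0 * g⁻¹ := by
    rw [map_mul, map_mul, ea, eb, conj_mul, conj_mul, ← map_mul, ← map_mul]; rfl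
  rcases (by decide +kernel : ∀ a b, inV a = true → inW b = true → isT b = true →
    a * b * (a * b) = 1 ∨ a * b * (a * b) = z0) a b ha hb hb' with e' | e' <;> rw [e'] at e
  · exact ine (iconj h.oz g) (e.symm.trans (map_one j))
  · exact absurd (h.inj (by simpa using e1.trans e)) (by decide : u0 ≠ z0)

theorem ov : orderOf (j v0) = 2 := h.ord (by decide) (by decide)

theorem KII {W M : Subgroup G} (s : SW j W) (hn : ¬ Cj (Cen1 (j t0)) (j z0) (j u0))
    (h1 : Cen1 (j z0) ≤ M) (h2 : W ≤ M) : Cen1 (j t0) ≤ M :=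
  (h.caseII hn).trans (sup_le (inf_le_right.trans h1) (h.odd_le (odd_Oo _) (Uo_le _)
    (h.UK.trans (nUo _)) fun c hc c1 => (s.le c (UV c hc) c1).trans h2))

theorem notL [IsSimpleGroup G] (te : IsConj (j t0) (j e0)) : False := by
  obtain ⟨W, s⟩ := h.sig
  have hn : ¬ Cj (Cen1 (j t0)) (j z0) (j u0) := fun hc => by
    obtain ⟨K0, K1, k⟩ := h.caseI hc
    obtain ⟨g, -, e1, e2⟩ := ext0 (h.sylT h.zu tt_t (by decide) h.ne)
      (h.syl.isPGroup.to_le inf_le_left) (inf_le_inf_right _ le_top) (cj_top.2 te.symm)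
    have m := e2 _ ⟨⟨z0, rfl⟩, h.comm.2 (zc e0).symm⟩
    obtain ⟨l, hl, e3⟩ := (k.cls h.toSJ inf_le_left le_rfl (k.mem _ m.2 (isConj_mk g _))
      (iconj h.oz g)).symm
    refine h.loc.2.2.2.1 _ ⟨t0, rfl, rfl⟩ ⟨l * g, c1'.2 ?_, ?_⟩
    · rw [← e3.symm.trans e3, ← e3]
      nth_rewrite 1 [e3]
      group
    · rw [← c1'.1 (k.le h.toSJ hl), ← e1]; group
  have WM : W ≤ Nor W ⊓ Nor (W ⊔ V0.map j) := le_inf le_normalizer (lnor le_sup_left)
  have VM : Nor (V0.map j) ≤ Nor W ⊓ Nor (W ⊔ V0.map j) := le_inf s.nV (nsup s.nV le_rfl)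
  have HM := h.le_of ((s.le z0 rfl (by decide)).trans WM) VM
  obtain ⟨g, e1, e2, e3⟩ := h.exN
  have k : ∀ c, inV c = true → ∃ a, inV a = true ∧ j a = g * j c * g⁻¹ := fun c hc => by
    obtain ⟨a, ha, e⟩ := e3 c ((by decide +kernel : ∀ c, inV c = true → inW c = true) c hc)
    by_cases c1 : c = 1
    · exact ⟨1, rfl, by simp [c1]⟩
    have e4 : IsConj (j z0) (j a) := (h.pZ hc c1).trans (e ▸ isConj_mk g _)
    rcases W_cases a ha (h.sq_of h.oz e4).1 with e5 | e5 | ⟨d, e5⟩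
    · exact ⟨a, e5, e⟩
    · exact absurd e4 (h.vt _ _ rfl e5)
    · exact absurd (e4.trans (te.trans (cjS j e5).isConj).symm) h.ne
  have gM : g ∈ Nor W ⊓ Nor (W ⊔ V0.map j) := VM (mnor (by
    rintro _ ⟨c, hc, rfl⟩
    exact k c hc))
  obtain ⟨a, ha, ea⟩ := k v0 rfl
  obtain ⟨b, hb, eb⟩ := e3 t0 rfl
  have e4 : IsConj (j t0) (j b) := eb ▸ isConj_mk g _
  rcases W_cases b hb (h.sq_of h.ot e4).1 with e5 | e5 | ⟨d, e5⟩
  · exact h.vt _ _ e5 rfl e4.symm
  · exact h.fixz e1 ea eb ha hb e5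
  · have e6 := h.top_of HM (h.KII s hn HM WM) (Cj.symm ⟨g, gM, e1⟩) (Or.inr
      (Cj.trans ⟨g, gM, eb.symm⟩ ((cjS j e5).symm.mono (h.SH.trans HM))))
    have e7 := e6.ge.trans inf_le_right
    rw [odd_bot_simple h.oz s.odd (e6.ge.trans inf_le_left), bot_sup_eq] at e7
    rcases (normalizer_eq_top_iff.1 (eq_top_iff.2 e7)).eq_bot_or_eq_top with e | e
    · exact ine h.oz (mem_bot.1 (e.le ⟨z0, rfl, rfl⟩))
    · obtain ⟨c, hc, e'⟩ := e.ge (mem_top (j t0))
      rw [h.inj e'] at hc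
      exact absurd hc (by decide : ¬ inV t0 = true)

/-- passing to the quotient by the core -/
theorem md {M : Subgroup G} (h1 : Cen1 (j z0) ≤ M) (h2 : Uo (j z0) ≤ Oo M)
    (h3 : Cj M (j z0) (j u0)) (h4 : Cj M (j z0) (j e0)) {X : Type u} [Group X] [Finite X]
    {f : M →* X} (hf : Function.Surjective f) (hk : f.ker = (Oo M).subgroupOf M) :
    MD (jq (h.SH.trans h1) f) := by
  have hN := odd_Oo M
  have k : ∀ a b, Cj M (j a) (j b) → IsConj (jq (h.SH.trans h1) f a) (jq (h.SH.trans h1) f b) :=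
    fun a b e => (e.im le_rfl _ _).isConj
  have ze := k _ _ h4
  refine ⟨⟨h.toSJ.quot _ hf hk hN, k _ _ h3, k _ _ (h3.trans (h.loc.1.uv.mono h1)),
    k _ _ (h.tsH.mono h1), k _ _ (h.trH.mono h1), fun e => h.ne (lift_cj hf hk hN h.oz h.ot e).isConj,
    Or.inl ze⟩, ?_, ze⟩
  have zM : j z0 ∈ M := h1 (c1.2 rfl)
  have e := im_inf_centralizer_singleton hk (K := M) zM (le_normalizer zM) (by
    rw [h.oz]; exact (odd_iff_cop.1 (odd_of_le inf_le_right hN)).symm)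
  rw [inf_eq_right.2 h1, im_self hf, top_inf_eq] at e
  have e2 := im_inf_pre (f := f) (Cen1 (j z0)) (Uo (jq (h.SH.trans h1) f z0))
  rw [e] at e2
  rw [← e2.trans (inf_eq_right.2 (Uo_le _)), im_eq_bot_iff hk (inf_le_left.trans h1)]
  refine (le_Oo inf_le_left (ninf le_normalizer (le_normalizer_pre h1 (e.le.trans (nUo _))))
    (odd_of_le inf_le_right ?_)).trans h2
  rw [card_pre hf hk (pPrimeCoreIn_le _ _)]
  exact (odd_Oo _).mul hN

theorem order [IsSimpleGroup G] : Nat.card G = 95040 := by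
  have ze := h.ec.resolve_right h.notL
  obtain ⟨W, s⟩ := h.sig
  have HM := h.le_of ((s.le z0 rfl (by decide)).trans le_normalizer) s.nV
  obtain ⟨g, e1, e2, e3⟩ := h.exN
  have zu : Cj (Nor W) (j z0) (j u0) := Cj.symm ⟨g, s.nU e2, e1⟩
  have ze' : Cj (Nor W) (j z0) (j e0) := by
    obtain ⟨a, ha, ea⟩ := e3 v0 rfl
    obtain ⟨b, hb, eb⟩ := e3 t0 rfl
    have e4 : IsConj (j t0) (j b) := eb ▸ isConj_mk g _
    have e5 : IsConj (j z0) (j a) := h.zv.trans (ea ▸ isConj_mk g _)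
    rcases W_cases a ha (h.sq_of h.oz e5).1 with e6 | e6 | ⟨d, e6⟩
    · rcases W_cases b hb (h.sq_of h.ot e4).1 with e7 | e7 | ⟨d, e7⟩
      · exact (h.vt _ _ e7 rfl e4.symm).elim
      · exact (h.fixz e1 ea eb e6 hb e7).elim
      · exact (h.ne ((ze.trans (cjS j e7).isConj).trans e4.symm)).elim
    · exact absurd e5 (h.vt _ _ rfl e6)
    · exact (zu.trans (h.loc.1.uv.mono HM)).trans (Cj.trans ⟨g, s.nU e2, ea.symm⟩
        ((cjS j e6).symm.mono (h.SH.trans HM)))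
  have WO : W ≤ Oo (Nor W) := le_Oo le_normalizer le_rfl s.odd
  have KM : Cen1 (j t0) ≤ Nor W := by
    by_cases hc : Cj (Cen1 (j t0)) (j z0) (j u0)
    swap
    · exact h.KII s hc HM le_normalizer
    obtain ⟨K0, K1, k⟩ := h.caseI hc
    refine k.sup _ (by_contra fun hn => ?_) (h.SH.trans HM)
    have q := (se_facts (k.se h.toSJ (inf_le_right.trans HM) (inf_le_right.trans s.nU) hn)
      (k.rk2 h.toSJ)).1
    have OW : Oo K0 ≤ W := h.odd_le (odd_Oo _) ((pPrimeCoreIn_le _ _).trans (k.le h.toSJ))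
      (k.syl.le.trans (lOo _)) fun c hc c1 => s.le c (UV c hc) c1
    obtain ⟨X, _, _, f, hf, hk⟩ := exists_hom_ker_eq (lOo (Nor W))
    have hN := odd_Oo (Nor W)
    have m := h.md HM ((s.le z0 rfl (by decide)).trans WO) zu ze' hf hk
    obtain ⟨x, hx, x1, x2⟩ := m.exX
    have tM : j t0 ∈ Nor W := HM (h.SH ⟨t0, rfl⟩)
    have zM : j z0 ∈ Nor W := HM (c1.2 rfl)
    have e := im_inf_centralizer_singleton hk (K := Nor W) tM (le_normalizer tM) (by
      rw [h.ot]; exact (odd_iff_cop.1 (odd_of_le inf_le_right hN)).symm)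
    obtain ⟨⟨y, yM⟩, hy, rfl⟩ := mem_im.1 (e.ge ⟨by rw [im_self hf]; exact mem_top _, hx⟩)
    have ox := (H9.orderOf_of_isConj x1).trans m.oz
    obtain ⟨a, ha, aM, a2, ea⟩ := BS.lift_inv hk hN yM (ii ox)
    rw [← ea] at x1 x2 ox
    have oa : orderOf a = 2 := o2 a2 fun e => ine ox (by subst e; exact map_one f)
    have aK := k.mem a (zpowers_le.2 hy.2 ha) (lift_cj hf hk hN h.oz oa x1).isConj
    have := (map_eq_one_iff_of_ker hk (x := ⟨a, aM⟩ * ⟨_, zM⟩ * (⟨a, aM⟩ * ⟨_, zM⟩))).2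
      (WO (OW (q a ⟨aK, aM⟩ _ ⟨k.syl.le ⟨z0, rfl, rfl⟩, zM⟩ a2 (ii h.oz))))
    rw [map_mul, map_mul] at this
    refine x2 (c1.2 ?_)
    refine (eq_inv_of_mul_eq_one_left this).trans ?_
    rw [mul_inv_rev, iinv ox]
    exact congrArg (· * _) (iinv m.oz)
  have e6 := h.top_of HM KM zu (Or.inl ze')
  exact MD.order ⟨h, eq_bot_iff.2 ((s.le z0 rfl (by decide)).trans
    (odd_bot_simple h.oz s.odd e6.ge).le), ze⟩

end Pat

theorem SJ.order [IsSimpleGroup G] (hG : ¬ IsMulCommutative G) {j : S0 →* G} (h : SJ j)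
    (hc : ∃ x y : G, orderOf x = 2 ∧ orderOf y = 2 ∧ ¬ IsConj x y) : Nat.card G = 95040 := by
  obtain ⟨j', h'⟩ := h.exists_pat hG hc
  exact h'.order

end MT
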